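import Cfsg.Agent.TwoLargest.Basic
import Cfsg.Agent.S4127
import Cfsg.Agent.LocalB.Embedded
import Cfsg.Agent.Solvable.PGroupBasic

/-!
Finite groups whose class sizes are `1`, `m` and `m * n` with `m`, `n` coprime: basic facts about
the centralisers of elements of prime power order.
-/

set_option autoImplicit false
set_option linter.unusedSectionVars false
set_option linter.style.haveILetI false

namespace CfsgLib.CoprimeSizes

open Subgroup CfsgLib.TwoLargest

/-- An element of `s`-power order. -/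
abbrev IsS {G : Type*} [Group G] (s : ℕ) (x : G) : Prop := ∃ e, orderOf x = s ^ e

/-- The class sizes are `1`, `m`, `m * n`. -/
structure Hyp (G : Type*) [Group G] (m n : ℕ) : Prop where
  one_lt_m : 1 < m
  one_lt_n : 1 < n
  cop : m.Coprime n
  sizes : ∀ x : G, x ∉ center G → k x = m ∨ k x = m * n
  exists_m : ∃ x : G, k x = m
  exists_mn : ∃ x : G, k x = m * n

variable {G : Type*} [Group G] [Finite G] {m n s : ℕ}

/-- The common order of the Sylow `s`-subgroups of the centralisers of noncentral elements. -/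
noncomputable def cS (G : Type*) [Group G] (m s : ℕ) : ℕ :=
  s ^ ((Nat.card G).factorization s - m.factorization s)

theorem isPGroup_zpowers {x : G} (hx : IsS s x) : IsPGroup s (zpowers x) := by
  obtain ⟨e, he⟩ := hx
  exact IsPGroup.of_card (n := e) (by rw [Nat.card_zpowers, he])

theorem isS_of_mem [hs : Fact s.Prime] {P : Subgroup G} (hP : IsPGroup s P) {x : G} (hx : x ∈ P) : IsS s x := by
  obtain ⟨e, he⟩ := IsPGroup.iff_orderOf.1 hP ⟨x, hx⟩
  exact ⟨e, by rw [← he, Subgroup.orderOf_mk]⟩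

theorem isS_conj {x : G} (hx : IsS s x) (g : G) : IsS s (g * x * g⁻¹) := by
  obtain ⟨e, he⟩ := hx
  refine ⟨e, ?_⟩
  rw [← he]
  exact (MulAut.conj g).orderOf_eq x

theorem coprime_of_isS {q : ℕ} (hs : s.Prime) (hq : q.Prime) (hne : q ≠ s) {x : G} (hx : IsS q x) :
    (orderOf x).Coprime s := by
  obtain ⟨e, he⟩ := hx
  rw [he]
  exact Nat.Coprime.pow_left _ ((Nat.coprime_primes hq hs).2 hne)

theorem eq_one_of_isS {x : G} (hx : IsS s x) (hco : (orderOf x).Coprime s) : x = 1 := by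
  obtain ⟨e, he⟩ := hx
  rw [he] at hco
  refine orderOf_eq_one_iff.1 ?_
  rw [he]
  exact Nat.eq_one_of_dvd_coprimes (hco.pow_right e) dvd_rfl dvd_rfl

theorem coprime_orders {x v : G} (hx : IsS s x) (hv : (orderOf v).Coprime s) :
    (orderOf x).Coprime (orderOf v) := by
  obtain ⟨e, he⟩ := hx
  rw [he]
  exact (hv.pow_right e).symm

theorem Hyp.not_dvd_n (h : Hyp G m n) (hs : s.Prime) (hsm : s ∣ m) : ¬ s ∣ n := fun hd =>
  hs.ne_one (Nat.eq_one_of_dvd_coprimes h.cop hsm hd)

theorem Hyp.m_dvd (h : Hyp G m n) {x : G} (hx : x ∉ center G) : m ∣ k x := by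
  rcases h.sizes x hx with e | e <;> simp [e]

theorem Hyp.k_ne_one (h : Hyp G m n) {x : G} (hx : k x = m ∨ k x = m * n) : x ∉ center G := by
  intro hc
  have := h.one_lt_m
  have := h.one_lt_n
  rcases hx with e | e <;> rw [k_of_center hc] at e
  · omega
  · exact absurd (Nat.eq_one_of_mul_eq_one_right e.symm) (by omega)

theorem Hyp.factorization_k (h : Hyp G m n) (hs : s.Prime) (hsm : s ∣ m) {x : G}
    (hx : x ∉ center G) : (k x).factorization s = m.factorization s := by
  rcases h.sizes x hx with e | e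
  · rw [e]
  · rw [e, Nat.factorization_mul (by have := h.one_lt_m; omega) (by have := h.one_lt_n; omega),
      Finsupp.add_apply, Nat.factorization_eq_zero_of_not_dvd (h.not_dvd_n hs hsm), add_zero]

theorem Hyp.factorization_C (h : Hyp G m n) (hs : s.Prime) (hsm : s ∣ m) {x : G}
    (hx : x ∉ center G) :
    (Nat.card (C x)).factorization s = (Nat.card G).factorization s - m.factorization s := by
  have e := (C x).card_mul_index
  rw [← e, Nat.factorization_mul Nat.card_pos.ne' (k_pos x).ne', Finsupp.add_apply,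
    h.factorization_k hs hsm hx]
  omega

theorem Hyp.card_dvd (h : Hyp G m n) [hs : Fact s.Prime] (hsm : s ∣ m) {x : G} (hx : x ∉ center G)
    {P : Subgroup G} (hP : IsPGroup s P) (hle : P ≤ C x) : Nat.card P ∣ cS G m s := by
  obtain ⟨a, ha⟩ := hP.exists_card_eq
  rw [cS, ← h.factorization_C hs.out hsm hx, ha]
  refine pow_dvd_pow s ((hs.out.pow_dvd_iff_le_factorization Nat.card_pos.ne').1 ?_)
  exact ha ▸ Subgroup.card_dvd_of_le hle

theorem Hyp.eq_of_card (h : Hyp G m n) [hs : Fact s.Prime] (hsm : s ∣ m) {x : G} (hx : x ∉ center G)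
    {P Q : Subgroup G} (hQ : IsPGroup s Q) (hQx : Q ≤ C x) (hP : Nat.card P = cS G m s)
    (hPQ : P ≤ Q) : Q = P :=
  (Subgroup.eq_of_le_of_card_ge hPQ
    (hP ▸ Nat.le_of_dvd (pow_pos hs.out.pos _) (h.card_dvd hsm hx hQ hQx))).symm

theorem Hyp.mem_of_normalize (h : Hyp G m n) [hs : Fact s.Prime] (hsm : s ∣ m) {v : G}
    (hv : v ∉ center G) {P : Subgroup G} (hP : IsPGroup s P) (hcP : Nat.card P = cS G m s)
    (hPv : P ≤ C v) {u : G} (hu : IsS s u) (huv : u ∈ C v) (hn : u ∈ normalizer (P : Set G)) :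
    u ∈ P := by
  rw [← h.eq_of_card hsm hv ((isPGroup_zpowers hu).to_sup_of_normal_right' hP (zpowers_le.2 hn))
    (sup_le (zpowers_le.2 huv) hPv) hcP le_sup_right]
  exact mem_sup_left (mem_zpowers u)

theorem Hyp.exists_card (h : Hyp G m n) [hs : Fact s.Prime] (hsm : s ∣ m) {x : G}
    (hx : x ∉ center G) : ∃ P : Subgroup G, IsPGroup s P ∧ P ≤ C x ∧ Nat.card P = cS G m s := by
  obtain ⟨Q⟩ : Nonempty (Sylow s (C x)) := inferInstance
  refine ⟨(Q : Subgroup (C x)).map (C x).subtype, Q.2.map _, map_subtype_le _, ?_⟩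
  rw [card_map_of_injective (C x).subtype_injective, Q.card_eq_multiplicity,
    h.factorization_C hs.out hsm hx, cS]

theorem Hyp.exists_noncentral (h : Hyp G m n) [hs : Fact s.Prime] (hsm : s ∣ m) :
    ∃ u : G, IsS s u ∧ u ∉ center G := by
  obtain ⟨S⟩ : Nonempty (Sylow s G) := inferInstance
  obtain ⟨x, hx⟩ := h.exists_m
  by_contra hc
  push Not at hc
  have hle : (S : Subgroup G) ≤ C x := fun u hu =>
    center_le_C x (hc u (isS_of_mem S.2 hu))
  exact S.not_dvd_index (hsm.trans (hx ▸ Subgroup.index_dvd_of_le hle))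

theorem Hyp.exists_commuting (h : Hyp G m n) [hs : Fact s.Prime] (hsm : s ∣ m) {v : G}
    (hv : v ∉ center G) : ∃ u : G, IsS s u ∧ u ∉ center G ∧ Commute v u := by
  by_contra hc
  push Not at hc
  obtain ⟨P, hP, hPv, hcP⟩ := h.exists_card hsm hv
  have hPZ : P ≤ center G := fun u hu => by
    by_contra hu'
    exact hc u (isS_of_mem hP hu) hu' (mem_C.1 (hPv hu))
  obtain ⟨z, hz, hzc⟩ := h.exists_noncentral hsm
  refine hzc (hPZ (h.mem_of_normalize hsm hzc hP hcP (hPZ.trans (center_le_C z)) hz (self_mem_C z) ?_))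
  refine mem_normalizer_iff.2 fun u => ?_
  constructor <;> intro hu
  · rwa [Subgroup.mem_center_iff.1 (hPZ hu) z, mul_inv_cancel_right]
  · have e : (z * u * z⁻¹) = u := by
      have e := Subgroup.mem_center_iff.1 (hPZ hu) z⁻¹
      rw [show z⁻¹ * (z * u * z⁻¹) = u * z⁻¹ by group] at e
      exact mul_right_cancel e.symm
    rwa [e] at hu

/-- The subgroup generated by the `s`-elements of the centraliser of `x`. -/
def T (s : ℕ) (x : G) : Subgroup G := closure {v | v ∈ C x ∧ IsS s v}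

theorem T_le_C (s : ℕ) (x : G) : T s x ≤ C x := (closure_le _).2 fun _ hv => hv.1

/-- For a noncentral `s`-element `x`, the `s`-elements of `C x` form a subgroup centralised by the
`s'`-elements of `C x`. -/
theorem Hyp.T_spec (h : Hyp G m n) [hs : Fact s.Prime] (hsm : s ∣ m) {x : G} (hx : IsS s x)
    (hxc : x ∉ center G) :
    (∀ v, v ∈ T s x ↔ v ∈ C x ∧ IsS s v) ∧ Nat.card (T s x) = cS G m s ∧ IsPGroup s (T s x) ∧
      ∀ v ∈ C x, (orderOf v).Coprime s → ∀ t ∈ T s x, Commute v t := by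
  classical
  obtain ⟨Q⟩ : Nonempty (Sylow s (C x)) := inferInstance
  have hkey : ∀ v : C x, (orderOf v).Coprime s →
      ¬ s ∣ (centralizer ({v} : Set (C x))).index := by
    intro v hv hd
    rw [← Subgroup.orderOf_coe] at hv
    have hcv : Commute x (v : G) := mem_C.1 v.2
    have hCe := C_mul hcv (coprime_orders hx hv)
    have e : C (x * (v : G)) = (centralizer ({v} : Set (C x))).map (C x).subtype := by
      rw [hCe]
      ext g
      constructor
      · intro hg
        obtain ⟨h1, h2⟩ := Subgroup.mem_inf.1 hg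
        exact ⟨⟨g, h1⟩, mem_C.2 (Subtype.ext (mem_C.1 h2).eq), rfl⟩
      · rintro ⟨g, hg, rfl⟩
        exact Subgroup.mem_inf.2 ⟨g.2, mem_C.2 ((mem_C.1 hg).map (C x).subtype)⟩
    have hxvc : x * (v : G) ∉ center G := fun hc => hxc (mem_center_of_k (Nat.dvd_one.1
      (k_of_center hc ▸ k_dvd_mul_left hcv (coprime_orders hx hv))))
    have h1 := h.factorization_k hs.out hsm hxvc
    rw [show k (x * (v : G)) = (C (x * (v : G))).index from rfl, e, Subgroup.index_map_subtype,
      Nat.factorization_mul Subgroup.index_ne_zero_of_finite (k_pos x).ne', Finsupp.add_apply,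
      h.factorization_k hs.out hsm hxc] at h1
    have h2 := (hs.out.dvd_iff_one_le_factorization Subgroup.index_ne_zero_of_finite).1 hd
    omega
  obtain ⟨hQn, hQc⟩ := Cfsg.Agent.S4127.sylow_of_centralizers Q hkey
  have hmemQ : ∀ v, ∀ hv : v ∈ C x, IsS s v → (⟨v, hv⟩ : C x) ∈ (Q : Subgroup (C x)) := by
    intro v hv ⟨e, he⟩
    obtain ⟨R, hR⟩ := (IsPGroup.of_card (p := s) (G := zpowers (⟨v, hv⟩ : C x)) (n := e)
      (by rw [Nat.card_zpowers, Subgroup.orderOf_mk, he])).exists_le_sylow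
    haveI := Sylow.unique_of_normal Q hQn
    rw [Subsingleton.elim Q R]
    exact hR (mem_zpowers _)
  have hTQ : T s x = (Q : Subgroup (C x)).map (C x).subtype := by
    refine le_antisymm ((closure_le _).2 fun v hv => ⟨⟨v, hv.1⟩, hmemQ v hv.1 hv.2, rfl⟩) ?_
    rintro _ ⟨v, hv, rfl⟩
    refine subset_closure ⟨v.2, ?_⟩
    obtain ⟨e, he⟩ := IsPGroup.iff_orderOf.1 Q.2 ⟨v, hv⟩
    refine ⟨e, ?_⟩
    rw [Subgroup.orderOf_mk] at he
    show orderOf ((v : G)) = s ^ e
    rw [Subgroup.orderOf_coe, he]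
  refine ⟨fun v => ⟨fun hv => ?_, fun hv => subset_closure hv⟩, ?_, hTQ ▸ Q.2.map _, ?_⟩
  · exact ⟨T_le_C s x hv, isS_of_mem (hTQ ▸ Q.2.map (C x).subtype) hv⟩
  · rw [hTQ, card_map_of_injective (C x).subtype_injective, Q.card_eq_multiplicity,
      h.factorization_C hs.out hsm hxc, cS]
  · intro v hv hvo t ht
    rw [hTQ] at ht
    obtain ⟨t, ht, rfl⟩ := ht
    exact (hQc ⟨v, hv⟩ (by rwa [Subgroup.orderOf_mk]) t ht).map (C x).subtype

/-- Whatever normalises `C x` normalises the `s`-elements of `C x`. -/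
theorem mem_normalizer_T {x g : G} (hg : g ∈ normalizer ((C x : Subgroup G) : Set G)) :
    g ∈ normalizer ((T s x : Subgroup G) : Set G) := by
  have key : ∀ a ∈ normalizer ((C x : Subgroup G) : Set G), ∀ t ∈ T s x, a * t * a⁻¹ ∈ T s x := by
    intro a ha t ht
    induction ht using closure_induction with
    | mem t ht =>
      exact subset_closure ⟨(mem_normalizer_iff.1 ha t).1 ht.1, isS_conj ht.2 a⟩
    | one => simp
    | mul u w _ _ hu hw =>
      rw [show a * (u * w) * a⁻¹ = (a * u * a⁻¹) * (a * w * a⁻¹) by group]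
      exact mul_mem hu hw
    | inv u _ hu =>
      rw [show a * u⁻¹ * a⁻¹ = (a * u * a⁻¹)⁻¹ by group]
      exact inv_mem hu
  refine mem_normalizer_iff.2 fun t => ⟨key g hg t, fun ht => ?_⟩
  simpa [mul_assoc] using key _ (inv_mem hg) _ ht

/-- A normalised noncentral subgroup of an `s`-group contains a noncentral element `b` with
`b ^ s` and all commutators with the `s`-group central. -/
theorem exists_commutator_central [hs : Fact s.Prime] {S B : Subgroup G} (hS : IsPGroup s S)
    (hBS : B ≤ S) (hn : S ≤ normalizer (B : Set G)) (hB : ¬ B ≤ center G) :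
    ∃ b ∈ B, b ∉ center G ∧ b ^ s ∈ center G ∧ ∀ g ∈ S, b⁻¹ * (g * b * g⁻¹) ∈ center G := by
  set π := QuotientGroup.mk' (center G)
  set S' := S.map π
  have hS' : IsPGroup s S' := hS.map π
  haveI := hS'.isNilpotent
  set B' := (B.map π).subgroupOf S'
  haveI : B'.Normal := by
    refine ⟨fun u hu g => ?_⟩
    obtain ⟨g', hg', eg⟩ := g.2
    obtain ⟨u', hu', eu⟩ := hu
    refine ⟨g' * u' * g'⁻¹, (mem_normalizer_iff.1 (hn hg') u').1 hu', ?_⟩
    rw [map_mul, map_mul, map_inv, eg, eu]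
    rfl
  have hB' : B' ≠ ⊥ := by
    intro e
    refine hB fun b hb => ?_
    have : (⟨π b, mem_map_of_mem π (hBS hb)⟩ : S') ∈ B' := mem_map_of_mem π hb
    rw [e, Subgroup.mem_bot] at this
    exact (QuotientGroup.eq_one_iff b).1 (congrArg Subtype.val this)
  obtain ⟨⟨c, hcS⟩, hc, hc1⟩ := (B' ⊓ center S').bot_or_exists_ne_one.resolve_left
    (PGroupBasic.inf_center_ne_bot B' hB')
  obtain ⟨hcB, hcZ⟩ := Subgroup.mem_inf.1 hc
  obtain ⟨b, hbB, rfl⟩ := hcB
  have hbn : b ∉ center G := fun hbz => hc1 (Subtype.ext ((QuotientGroup.eq_one_iff b).2 hbz))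
  have hcomm : ∀ g ∈ S, b⁻¹ * (g * b * g⁻¹) ∈ center G := by
    intro g hg
    have e : π g * π b = π b * π g :=
      congrArg Subtype.val (Subgroup.mem_center_iff.1 hcZ ⟨π g, mem_map_of_mem π hg⟩)
    refine (QuotientGroup.eq_one_iff _).1 ?_
    show π (b⁻¹ * (g * b * g⁻¹)) = 1
    simp [e]
  -- the last `s`-th power outside the centre
  classical
  obtain ⟨j, hj⟩ := hS ⟨b, hBS hbB⟩
  have hex : ∃ i, b ^ s ^ i ∈ center G := ⟨j, by
    have := congrArg Subtype.val hj
    simp only [SubmonoidClass.coe_pow, OneMemClass.coe_one] at this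
    rw [this]; exact one_mem _⟩
  have h0 : Nat.find hex ≠ 0 := fun e => hbn (by simpa [e] using Nat.find_spec hex)
  obtain ⟨i, hi⟩ := Nat.exists_eq_succ_of_ne_zero h0
  refine ⟨b ^ s ^ i, pow_mem hbB _, Nat.find_min hex (by omega), ?_, fun g hg => ?_⟩
  · rw [← pow_mul, ← pow_succ, ← Nat.succ_eq_add_one, ← hi]
    exact Nat.find_spec hex
  · have hz := Subgroup.mem_center_iff.1 (hcomm g hg)
    have hbz : Commute b (b⁻¹ * (g * b * g⁻¹)) := hz b
    have e : g * b ^ s ^ i * g⁻¹ = b ^ s ^ i * (b⁻¹ * (g * b * g⁻¹)) ^ s ^ i := by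
      rw [← hbz.mul_pow, mul_inv_cancel_left, conj_pow]
    rw [e, inv_mul_cancel_left]
    exact pow_mem (hcomm g hg) _

end CfsgLib.CoprimeSizes
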