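import Cfsg.Agent.CoprimeSizes.Shared

/-!
The case of an `s`-element with the smaller nontrivial class size.
-/

set_option autoImplicit false
set_option linter.unusedSectionVars false
set_option linter.style.haveILetI false

namespace CfsgLib.CoprimeSizes

open Subgroup CfsgLib.TwoLargest
open scoped commutatorElement

variable {G : Type*} [Group G] [Finite G] {m n s : ℕ}

/-- Two elements generating a nonabelian group modulo the centre give a cyclic derived group. -/
theorem commutator_le_zpowers (A : Subgroup G) {t g ζ : G} (hA : A ≤ center G ⊔ zpowers t ⊔ zpowers g)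
    (hζ : ζ ∈ center G) (htg : g * t * g⁻¹ = t * ζ) : ⁅A, A⁆ ≤ zpowers ζ := by
  set N := zpowers ζ
  haveI : N.Normal := ⟨fun u hu a => by
    rw [Subgroup.mem_center_iff.1 ((zpowers_le.2 hζ) hu) a, mul_inv_cancel_right]; exact hu⟩
  set f := QuotientGroup.mk' N
  set X : Set G := (center G : Set G) ∪ {t, g}
  have hAX : A ≤ closure X := hA.trans (sup_le (sup_le
    (fun u hu => subset_closure (Or.inl hu))
    (zpowers_le.2 (subset_closure (Or.inr (Or.inl rfl)))))
    (zpowers_le.2 (subset_closure (Or.inr (Or.inr rfl)))))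
  have hgt : Commute (f g) (f t) := by
    show f g * f t = f t * f g
    rw [← map_mul, ← map_mul, show g * t = t * ζ * g by rw [← htg, inv_mul_cancel_right],
      map_mul, map_mul, map_mul, show f ζ = 1 from (QuotientGroup.eq_one_iff ζ).2 (mem_zpowers ζ),
      mul_one]
  have hXX : ∀ a ∈ X, ∀ b ∈ X, Commute (f a) (f b) := by
    intro a ha b hb
    rcases ha with ha | ha
    · exact (show Commute a b from (Subgroup.mem_center_iff.1 ha b).symm).map f
    rcases hb with hb | hb
    · exact (show Commute a b from Subgroup.mem_center_iff.1 hb a).map f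
    rcases ha with rfl | rfl <;> rcases hb with rfl | rfl
    · exact Commute.refl _
    · exact hgt.symm
    · exact hgt
    · exact Commute.refl _
  have h1 : ∀ a ∈ closure X, ∀ b ∈ X, Commute (f a) (f b) := by
    intro a ha b hb
    induction ha using closure_induction with
    | mem a ha => exact hXX a ha b hb
    | one => rw [map_one]; exact Commute.one_left _
    | mul u w _ _ hu hw => rw [map_mul]; exact hu.mul_left hw
    | inv u _ hu => rw [map_inv]; exact hu.inv_left
  have h2 : ∀ a ∈ closure X, ∀ b ∈ closure X, Commute (f a) (f b) := by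
    intro a ha b hb
    induction hb using closure_induction with
    | mem b hb => exact h1 a ha b hb
    | one => rw [map_one]; exact Commute.one_right _
    | mul u w _ _ hu hw => rw [map_mul]; exact hu.mul_right hw
    | inv u _ hu => rw [map_inv]; exact hu.inv_right
  refine Subgroup.commutator_le.2 fun a ha b hb => (QuotientGroup.eq_one_iff _).1 ?_
  show f ⁅a, b⁆ = 1
  rw [map_commutatorElement]
  exact commutatorElement_eq_one_iff_commute.2 (h2 a (hAX ha) b (hAX hb))

theorem Hyp.case_complement (h : Hyp G m n) [hs : Fact s.Prime] {e : ℕ} (hme : m = s ^ e)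
    (hx0 : ∃ x : G, IsS s x ∧ k x = m) :
    m.Prime ∧ m ∣ n - 1 ∧ (∃ M : Subgroup G, M.Normal ∧
      (M : Set G) = {x : G | k x = 1 ∨ k x = m} ∧ M.index = m ∧ IsMulCommutative M) ∧
      (∃ N : Subgroup G, N.Normal ∧ (Nat.card N).Coprime m ∧ ∃ a : ℕ, N.index = m ^ a) ∧
      ∀ P : Sylow m G, Nat.card (commutator (P : Subgroup G)) = m := by
  classical
  obtain ⟨x, hx, hkx⟩ := hx0
  have hsp := hs.out
  have hsm : s ∣ m := by
    rw [hme]
    refine dvd_pow_self s fun e0 => ?_
    have := h.one_lt_m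
    rw [hme, e0, pow_zero] at this
    omega
  have hxc := h.k_ne_one (Or.inl hkx)
  have hef : m.factorization s = e := by
    rw [hme, hsp.factorization_pow, Finsupp.single_eq_same]
  have hmax : ∀ y : G, ¬ s ^ (e + 1) ∣ (centralizer ({y} : Set G)).index := by
    intro y hd
    by_cases hy : y ∈ center G
    · rw [show (centralizer ({y} : Set G)).index = 1 from k_of_center hy, Nat.dvd_one,
        Nat.pow_eq_one] at hd
      rcases hd with hd | hd
      · exact hsp.ne_one hd
      · omega
    · have := (hsp.pow_dvd_iff_le_factorization (k_pos y).ne').1 hd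
      rw [h.factorization_k hsp hsm hy, hef] at this
      omega
  obtain ⟨P₀, L, hLn, hcompl⟩ := Cfsg.Agent.S4127.result s e hmax ⟨x, hx, hkx.trans hme⟩
  obtain ⟨a₀, ha₀⟩ := P₀.2.exists_card_eq
  have hLidx : L.index = s ^ a₀ := by rw [← ha₀]; exact hcompl.symm.index_eq_card
  have hLco : (Nat.card L).Coprime s := by
    rw [← hcompl.index_eq_card]
    exact (hsp.coprime_iff_not_dvd.2 P₀.not_dvd_index).symm
  have hLmem : ∀ v : G, v ∈ L ↔ (orderOf v).Coprime s := by
    refine fun v => ⟨fun hv => hLco.coprime_dvd_left (Subgroup.orderOf_dvd_natCard L hv), fun hv => ?_⟩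
    obtain ⟨j, hj⟩ := exists_pow_eq_self_of_coprime (x := v) (n := L.index)
      (by rw [hLidx]; exact (hv.pow_right a₀).symm)
    rw [← hj]
    exact pow_mem (Subgroup.pow_index_mem L v) j
  -- the `s'`-part of a class size
  have hdich : ∀ y : G, y ∉ center G →
      (k y = m ∧ L ≤ C y) ∨ (k y = m * n ∧ (C y).relIndex L = n) := by
    intro y hy
    set r := (C y).relIndex L
    have hrd : r ∣ k y := relIndex_dvd_k L y
    have hrs : r.Coprime m := by
      rw [hme]
      exact (hLco.coprime_dvd_left (Subgroup.relIndex_dvd_card (H := C y) (K := L))).pow_right e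
    rcases h.sizes y hy with hk | hk
    · exact Or.inl ⟨hk, Subgroup.relIndex_eq_one.1 (Nat.eq_one_of_dvd_coprimes hrs dvd_rfl (hk ▸ hrd))⟩
    · refine Or.inr ⟨hk, Nat.dvd_antisymm (hrs.dvd_of_dvd_mul_left (hk ▸ hrd)) ?_⟩
      have h1 : n ∣ r * L.index := (dvd_mul_left n m).trans (hk ▸ k_dvd_relIndex_mul L y)
      rw [hLidx] at h1
      exact ((hsp.coprime_iff_not_dvd.2 (h.not_dvd_n hsp hsm)).symm.pow_right a₀).dvd_of_dvd_mul_right h1
  have hLZ : ¬ L ≤ center G := by
    intro hc
    obtain ⟨y, hy⟩ := h.exists_mn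
    rcases hdich y (h.k_ne_one (Or.inr hy)) with ⟨e1, -⟩ | ⟨-, e1⟩
    · rw [hy] at e1
      have := h.one_lt_n
      have := h.one_lt_m
      nlinarith
    · rw [Subgroup.relIndex_eq_one.2 (hc.trans (center_le_C y))] at e1
      exact absurd e1 h.one_lt_n.ne
  have hLC : ∀ y : G, y ∉ center G → k y = m → L ≤ C y := by
    intro y hy hk
    rcases hdich y hy with ⟨-, e1⟩ | ⟨e1, -⟩
    · exact e1
    · rw [hk] at e1
      have := h.one_lt_n
      have := h.one_lt_m
      nlinarith
  obtain ⟨hTm, hTc, hTp, hTcomm⟩ := h.T_spec hsm hx hxc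
  set B := T s x
  have hBL : ∀ t ∈ B, ∀ l ∈ L, Commute t l := fun t ht l hl =>
    (hTcomm l (hLC x hxc hkx hl) ((hLmem l).1 hl) t ht).symm
  obtain ⟨ρ₀, hρ₀, hρ₀c⟩ := SetLike.not_le_iff_exists.1 hLZ
  set D := centralizer (L : Set G)
  have hBD : B ≤ D := fun t ht =>
    Subgroup.mem_centralizer_iff.2 fun l hl => (hBL t ht l hl).symm.eq
  have hDB : ∀ v ∈ D, IsS s v → v ∈ B := by
    intro v hv hvs
    obtain ⟨R, hR⟩ := (hTp.comap_subtype (K := D)).exists_le_sylow
    have hRe : (R : Subgroup D).map D.subtype = B :=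
      h.eq_of_card hsm hρ₀c (R.2.map _) (fun u hu => mem_C.2 (Subgroup.mem_centralizer_iff.1
        (map_subtype_le _ hu) ρ₀ hρ₀)) hTc (fun u hu => ⟨⟨u, hBD hu⟩, hR hu, rfl⟩)
    obtain ⟨hRn, -⟩ := Cfsg.Agent.S4127.sylow_of_centralizers R (fun w hw => by
      rw [show (centralizer ({w} : Set D)).index = 1 from Subgroup.index_eq_one.2 (eq_top_iff.2
        fun u _ => Subgroup.mem_centralizer_singleton_iff.2 (Subtype.ext
          (Subgroup.mem_centralizer_iff.1 u.2 (w : G)
            ((hLmem _).2 (by rwa [Subgroup.orderOf_coe]))).symm))]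
      exact hsp.not_dvd_one)
    obtain ⟨i, hi⟩ := hvs
    obtain ⟨R', hR'⟩ := (IsPGroup.of_card (p := s) (G := zpowers (⟨v, hv⟩ : D)) (n := i)
      (by rw [Nat.card_zpowers, Subgroup.orderOf_mk, hi])).exists_le_sylow
    haveI := Sylow.unique_of_normal R hRn
    rw [Subsingleton.elim R' R] at hR'
    rw [← hRe]
    exact ⟨_, hR' (mem_zpowers _), rfl⟩
  haveI hBn : B.Normal := ⟨fun t ht g => hDB _
    (Subgroup.Normal.conj_mem (inferInstanceAs (centralizer (L : Set G)).Normal) t (hBD ht) g)
    (isS_conj ((hTm t).1 ht).2 g)⟩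
  have hBz : ∀ z ∈ B, z ∉ center G → T s z = B ∧ C z = B ⊔ L := by
    intro z hz hzc
    have hzs := ((hTm z).1 hz).2
    obtain ⟨hzm, hzcard, hzp, hzcomm⟩ := h.T_spec hsm hzs hzc
    have hLz : L ≤ C z := fun l hl => mem_C.2 (hBL z hz l hl)
    have e1 : T s z = B := Subgroup.eq_of_le_of_card_ge (fun u hu => hDB u
      (Subgroup.mem_centralizer_iff.2 fun l hl => (hzcomm l (hLz hl) ((hLmem l).1 hl) u hu).eq)
      ((hzm u).1 hu).2) (hTc.trans hzcard.symm).le
    refine ⟨e1, le_antisymm (fun v hv => ?_) (sup_le (e1 ▸ T_le_C s z) hLz)⟩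
    obtain ⟨a, b, hab, ha, hb, hae, hbs⟩ := CfsgLib.FGSBSmall.exists_prime_split hsp v
    rw [← hab]
    refine mul_mem (mem_sup_left ?_) (mem_sup_right ((hLmem b).2 hbs))
    rw [← e1]
    exact (hzm a).2 ⟨zpowers_le.2 hv ha, hae⟩
  have hBab : ∀ z ∈ B, ∀ t ∈ B, Commute z t := by
    intro z hz t ht
    by_cases hzc : z ∈ center G
    · exact (Subgroup.mem_center_iff.1 hzc t).symm
    · exact mem_C.1 ((hBz z hz hzc).2.symm ▸ mem_sup_left ht : t ∈ C z)
  have hgl : ∀ g : G, IsS s g → g ∉ B → ∀ l ∈ L, Commute g l → l ∈ center G := by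
    intro g hg hgB l hl hgl'
    by_contra hlc
    exact hgB (h.mem_of_normalize hsm hlc hTp hTc (fun t ht => mem_C.2 (hBL t ht l hl).symm) hg
      (mem_C.2 hgl'.symm) (by rw [Subgroup.normalizer_eq_top B]; exact mem_top g))
  -- an `s`-element outside `B`, with a Sylow subgroup adapted to it
  have hcardS : ∀ S : Sylow s G, Nat.card (S : Subgroup G) = s ^ (Nat.card G).factorization s :=
    fun S => S.card_eq_multiplicity
  have he1 : 1 ≤ e := by
    by_contra he
    have := h.one_lt_m
    rw [hme, show e = 0 by omega, pow_zero] at this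
    omega
  have hev : e ≤ (Nat.card G).factorization s := by
    refine (hsp.pow_dvd_iff_le_factorization Nat.card_pos.ne').1 ?_
    rw [← hme, ← hkx]
    exact Subgroup.index_dvd_card (C x)
  have hlt : cS G m s < s ^ (Nat.card G).factorization s :=
    Nat.pow_lt_pow_right hsp.one_lt (by omega)
  obtain ⟨g, hgs, hgB⟩ : ∃ g : G, IsS s g ∧ g ∉ B := by
    obtain ⟨S⟩ : Nonempty (Sylow s G) := inferInstance
    by_contra hc
    push Not at hc
    have := Subgroup.card_le_of_le (H := (S : Subgroup G)) (K := B)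
      fun u hu => hc u (isS_of_mem S.2 hu)
    rw [hcardS, hTc] at this
    omega
  have hgc : g ∉ center G := fun hc => hgB ((hTm g).2 ⟨center_le_C x hc, hgs⟩)
  obtain ⟨P, hP, hPg, hcP⟩ := h.exists_card hsm hgc
  have hgP : g ∈ P := h.mem_of_normalize hsm hgc hP hcP hPg hgs (self_mem_C g)
    (mem_normalizer_iff.2 fun u => by
      constructor <;> intro hu
      · rwa [(mem_C.1 (hPg hu)).eq, mul_inv_cancel_right]
      · have e1 : g * u * g⁻¹ = u := by
          have := mem_C.1 (hPg hu)
          have h2 := this.eq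
          rw [show g * (g * u * g⁻¹) = g * (g * u) * g⁻¹ by group,
            show g * u * g⁻¹ * g = g * u by group] at h2
          exact mul_left_cancel (a := g) (by rw [← mul_assoc, ← mul_assoc, mul_assoc g g u, h2])
        rwa [e1] at hu)
  obtain ⟨S, hPS⟩ := hP.exists_le_sylow
  have hgS : g ∈ (S : Subgroup G) := hPS hgP
  have hBS : B ≤ S := by
    have h1 := S.3 (hTp.to_sup_of_normal_left' S.2
      (by rw [Subgroup.normalizer_eq_top B]; exact le_top)) le_sup_right
    exact h1 ▸ le_sup_left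
  have hBZ : ¬ B ≤ center G := fun hc => hxc (hc ((hTm x).2 ⟨self_mem_C x, hx⟩))
  obtain ⟨t, htB, htc, hts, htS⟩ := exists_commutator_central S.2 hBS
    (by rw [Subgroup.normalizer_eq_top B]; exact le_top) hBZ
  obtain ⟨htT, hCt⟩ := hBz t htB htc
  obtain ⟨htm, -, -, -⟩ := h.T_spec hsm ((hTm t).1 htB).2 htc
  have hMs : ∀ u ∈ B ⊔ L, IsS s u → u ∈ B := fun u hu hus =>
    htT ▸ (htm u).2 ⟨hCt.symm ▸ hu, hus⟩
  have hpow : ∀ u ∈ (S : Subgroup G), u ^ s ∈ B := fun u hu =>
    hMs _ (hCt ▸ pow_mem_C (htS u hu) hts) (isS_of_mem S.2 (pow_mem hu s))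
  -- `L` is abelian
  have hrg : (center G).relIndex L = n := by
    have e1 : C g ⊓ L = center G ⊓ L := le_antisymm
      (fun l hl => ⟨hgl g hgs hgB l hl.2 (mem_C.1 hl.1), hl.2⟩) (inf_le_inf_right _ (center_le_C g))
    rw [← Subgroup.inf_relIndex_right, ← e1, Subgroup.inf_relIndex_right]
    rcases hdich g hgc with ⟨-, hle⟩ | ⟨-, hr⟩
    · exact absurd (fun l hl => ((le_of_eq e1) ⟨hle hl, hl⟩).1) hLZ
    · exact hr
  have hLab : ∀ u ∈ L, ∀ v ∈ L, Commute u v := by
    intro u hu v hv
    by_cases huc : u ∈ center G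
    · exact (Subgroup.mem_center_iff.1 huc v).symm
    rcases hdich u huc with ⟨-, hle⟩ | ⟨-, hr⟩
    · exact mem_C.1 (hle hv)
    · exfalso
      have e1 : center G ⊓ L = C u ⊓ L := by
        refine Subgroup.eq_of_le_of_card_ge (inf_le_inf_right _ (center_le_C u)) ?_
        have h1 := Subgroup.relIndex_mul_relIndex (⊥ : Subgroup G) (center G ⊓ L) L bot_le inf_le_right
        have h2 := Subgroup.relIndex_mul_relIndex (⊥ : Subgroup G) (C u ⊓ L) L bot_le inf_le_right
        rw [Subgroup.relIndex_bot_left, Subgroup.relIndex_bot_left, Subgroup.inf_relIndex_right,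
          hrg] at h1
        rw [Subgroup.relIndex_bot_left, Subgroup.relIndex_bot_left, Subgroup.inf_relIndex_right,
          hr] at h2
        exact (Nat.eq_of_mul_eq_mul_right (by have := h.one_lt_n; omega) (h2.trans h1.symm)).le
      exact huc ((le_of_eq e1.symm) ⟨self_mem_C u, hu⟩).1
  -- the index of `B` in `S`
  obtain ⟨l₀, hl₀, hl₀c⟩ := SetLike.not_le_iff_exists.1 hLZ
  have hBne : B ≠ S := fun e1 => hgB (e1 ▸ hgS)
  have hidx : B.relIndex (S : Subgroup G) = s :=
    relIndex_eq_prime S.2 hBS (by rw [Subgroup.normalizer_eq_top B]; exact le_top) hBne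
      (by rw [Subgroup.normalizer_eq_top L]; exact le_top) hLab hBL
      (fun u hu hub l hl hc => hgl u (isS_of_mem S.2 hu) hub l hl hc) hpow hl₀ hl₀c
      ((hLmem l₀).1 hl₀)
  have hSB : Nat.card B * s = Nat.card (S : Subgroup G) := by
    have h1 := Subgroup.relIndex_mul_relIndex (⊥ : Subgroup G) B (S : Subgroup G) bot_le hBS
    rwa [Subgroup.relIndex_bot_left, Subgroup.relIndex_bot_left, hidx] at h1
  have he : e = 1 := by
    rw [hcardS, hTc, cS, hef, ← pow_succ] at hSB
    have := Nat.pow_right_injective hsp.two_le hSB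
    omega
  subst he
  rw [pow_one] at hme
  subst hme
  set M := B ⊔ L with hM
  haveI hLn' := hLn
  have hMn : M.Normal := Subgroup.sup_normal B L
  have hBC : ∀ u ∈ M, ∀ v ∈ M, Commute u v := by
    have h1 : M ≤ centralizer (M : Set G) := by
      refine sup_le ?_ ?_ <;> rw [Subgroup.le_centralizer_iff] <;> refine sup_le ?_ ?_
      · exact fun u hu => Subgroup.mem_centralizer_iff.2 fun v hv => (hBab v hv u hu).eq
      · exact fun u hu => Subgroup.mem_centralizer_iff.2 fun v hv => (hBL v hv u hu).eq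
      · exact fun u hu => Subgroup.mem_centralizer_iff.2 fun v hv => (hBL u hu v hv).symm.eq
      · exact fun u hu => Subgroup.mem_centralizer_iff.2 fun v hv => (hLab v hv u hu).eq
    exact fun u hu v hv => (Subgroup.mem_centralizer_iff.1 (h1 hu) v hv).symm
  have hgM : g ∉ M := fun hg => hgB (hMs g hg hgs)
  have hkt : k t = m := by
    rcases hdich t htc with ⟨e1, -⟩ | ⟨-, e1⟩
    · exact e1
    · rw [Subgroup.relIndex_eq_one.2 (show L ≤ C t from hCt.symm ▸ le_sup_right)] at e1
      exact absurd e1 h.one_lt_n.ne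
  refine ⟨hsp, ?_, ⟨M, hMn, ?_, ?_, ⟨⟨fun u v => Subtype.ext (hBC u u.2 v v.2).eq⟩⟩⟩,
    ⟨L, hLn, hLco, a₀, hLidx⟩, ?_⟩
  · -- `m ∣ n - 1`
    set A := zpowers g
    have hAL : A ≤ normalizer (L : Set G) := by rw [Subgroup.normalizer_eq_top L]; exact le_top
    letI : MulAction A L := MulAction.compHom L (L.normalizerMonoidHom.comp (Subgroup.inclusion hAL))
    have hAp : IsPGroup m A := isPGroup_zpowers hgs
    have hmod := hAp.card_modEq_card_fixedPoints L
    have hfx : Nat.card (MulAction.fixedPoints A L) = Nat.card (center G ⊓ L : Subgroup G) := by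
      refine Nat.card_congr
        { toFun := fun l => ⟨((l : L) : G), ?_, (l : L).2⟩
          invFun := fun l => ⟨⟨(l : G), l.2.2⟩, fun a => ?_⟩
          left_inv := fun l => rfl
          right_inv := fun l => rfl }
      · have e1 : g * ((l : L) : G) * g⁻¹ = ((l : L) : G) :=
          congrArg Subtype.val (l.2 ⟨g, mem_zpowers g⟩)
        exact hgl g hgs hgB _ (l : L).2 (mul_inv_eq_iff_eq_mul.1 e1)
      · refine Subtype.ext ?_
        show (a : G) * (l : G) * (a : G)⁻¹ = (l : G)
        rw [show (a : G) * (l : G) = (l : G) * a from Subgroup.mem_center_iff.1 l.2.1 a,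
          mul_inv_cancel_right]
    rw [hfx] at hmod
    have h1 := Subgroup.relIndex_mul_relIndex (⊥ : Subgroup G) (center G ⊓ L) L bot_le inf_le_right
    rw [Subgroup.relIndex_bot_left, Subgroup.relIndex_bot_left, Subgroup.inf_relIndex_right, hrg] at h1
    rw [← h1] at hmod
    set z := Nat.card (center G ⊓ L : Subgroup G)
    have h2 : m ∣ z * n - z := (Nat.modEq_iff_dvd' (Nat.le_mul_of_pos_right z
      (by have := h.one_lt_n; omega))).1 hmod.symm
    rw [← Nat.mul_sub_one] at h2
    refine Nat.Coprime.dvd_of_dvd_mul_left ?_ h2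
    exact (hLco.coprime_dvd_left (Subgroup.card_dvd_of_le inf_le_right)).symm
  · ext y
    constructor
    · intro hy
      by_cases hyc : y ∈ center G
      · exact Or.inl (k_of_center hyc)
      · refine Or.inr ?_
        rcases hdich y hyc with ⟨e1, -⟩ | ⟨-, e1⟩
        · exact e1
        · rw [Subgroup.relIndex_eq_one.2 fun l hl => mem_C.2 (hBC y hy l (mem_sup_right hl))] at e1
          exact absurd e1 h.one_lt_n.ne
    · intro hy
      by_cases hyc : y ∈ center G
      · exact hCt ▸ center_le_C t hyc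
      have hky : k y = m := hy.resolve_left fun e1 => hyc (mem_center_of_k e1)
      obtain ⟨a, b, hab, ha, hb, hae, hbs⟩ := CfsgLib.FGSBSmall.exists_prime_split hsp y
      rw [← hab]
      refine mul_mem (mem_sup_left (hDB a (Subgroup.mem_centralizer_iff.2 fun l hl => ?_) hae))
        (mem_sup_right ((hLmem b).2 hbs))
      exact (Cfsg.Agent.S4127.commute_of_mem_zpowers (mem_C.1 (hLC y hyc hky hl)) ha).symm.eq
  · exact (congrArg Subgroup.index hCt).symm.trans hkt
  · -- the derived group of a Sylow subgroup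
    set ζ := t⁻¹ * (g * t * g⁻¹) with hζ
    have hζc : ζ ∈ center G := htS g hgS
    have hζs : ζ ^ m = 1 := zeta_pow hζc hts
    have hζ1 : ζ ≠ 1 := fun e1 => by
      rw [hζ, inv_mul_eq_one] at e1
      exact hgM (hCt ▸ mem_C.2 (mul_inv_eq_iff_eq_mul.1 e1.symm).symm)
    set Z₀ := B ⊓ center G
    have hZ₀ : Z₀ = B ⊓ P := by
      refine le_antisymm (le_inf inf_le_left fun u hu => ?_) (le_inf inf_le_left fun u hu => ?_)
      · refine h.mem_of_normalize hsm hgc hP hcP hPg ((hTm u).1 hu.1).2 (center_le_C g hu.2) ?_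
        refine mem_normalizer_iff.2 fun w => ?_
        rw [← (Subgroup.mem_center_iff.1 hu.2 w : w * u = u * w), mul_inv_cancel_right]
      · by_contra huc
        exact hgM ((hBz u hu.1 huc).2 ▸ mem_C.2 (mem_C.1 (hPg hu.2)).symm)
    have hBidx : Z₀.relIndex B ≤ m := by
      have h1 : B.relIndex P ≤ m := hidx ▸ Subgroup.relIndex_le_of_le_right hPS (by rw [hidx]; exact hsp.ne_zero)
      have h2 := Subgroup.relIndex_mul_relIndex (⊥ : Subgroup G) Z₀ B bot_le inf_le_left
      have h3 := Subgroup.relIndex_mul_relIndex (⊥ : Subgroup G) (B ⊓ P) P bot_le inf_le_right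
      rw [Subgroup.relIndex_bot_left, Subgroup.relIndex_bot_left, hTc] at h2
      rw [← hZ₀, Subgroup.relIndex_bot_left, Subgroup.relIndex_bot_left, hcP, ← h2] at h3
      rw [← Nat.eq_of_mul_eq_mul_left Nat.card_pos h3, hZ₀, Subgroup.inf_relIndex_right]
      exact h1
    have hBgen : B ≤ center G ⊔ zpowers t := by
      have h1 : Z₀ ⊔ zpowers t = B := by
        have hle : Z₀ ⊔ zpowers t ≤ B := sup_le inf_le_left (zpowers_le.2 htB)
        have h2 := Subgroup.relIndex_mul_relIndex Z₀ (Z₀ ⊔ zpowers t) B le_sup_left hle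
        obtain ⟨i, hi⟩ := (hTp.to_le hle).index (Z₀.subgroupOf (Z₀ ⊔ zpowers t))
        have hne : Z₀.relIndex (Z₀ ⊔ zpowers t) ≠ 1 := fun e1 =>
          htc ((Subgroup.relIndex_eq_one.1 e1) (mem_sup_right (mem_zpowers t))).2
        have h3 : m ≤ Z₀.relIndex (Z₀ ⊔ zpowers t) := by
          rw [Subgroup.relIndex, hi] at hne ⊢
          exact Nat.le_self_pow (fun e1 => hne (by rw [e1, pow_zero])) m
        refine le_antisymm hle (Subgroup.relIndex_eq_one.1 ?_)
        have h4 : 0 < (Z₀ ⊔ zpowers t).relIndex B := Nat.pos_of_ne_zero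
          (Subgroup.index_ne_zero_of_finite (H := (Z₀ ⊔ zpowers t).subgroupOf B))
        by_contra h5
        have h6 : 2 ≤ (Z₀ ⊔ zpowers t).relIndex B := by omega
        have := Nat.mul_le_mul h3 h6
        rw [h2] at this
        have := hsp.pos
        omega
      exact h1 ▸ sup_le_sup_right inf_le_right _
    have hSgen : (S : Subgroup G) ≤ center G ⊔ zpowers t ⊔ zpowers g := by
      have hle : B ⊔ zpowers g ≤ S := sup_le hBS (zpowers_le.2 hgS)
      have h2 := Subgroup.relIndex_mul_relIndex B (B ⊔ zpowers g) (S : Subgroup G) le_sup_left hle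
      rw [hidx] at h2
      rcases hsp.eq_one_or_self_of_dvd _ (dvd_of_mul_right_eq _ h2) with e1 | e1
      · exact absurd ((Subgroup.relIndex_eq_one.1 e1) (mem_sup_right (mem_zpowers g))) hgB
      · rw [e1] at h2
        have h5 : (B ⊔ zpowers g).relIndex (S : Subgroup G) = 1 :=
          Nat.eq_of_mul_eq_mul_left hsp.pos (by rw [h2, mul_one])
        exact (Subgroup.relIndex_eq_one.1 h5).trans (sup_le_sup_right hBgen _)
    have htg : g * t * g⁻¹ = t * ζ := by rw [hζ, mul_inv_cancel_left]
    have hSS : ⁅(S : Subgroup G), (S : Subgroup G)⁆ = zpowers ζ := by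
      refine le_antisymm (commutator_le_zpowers _ hSgen hζc htg) (zpowers_le.2 ?_)
      have h1 := Subgroup.commutator_mem_commutator hgS (hBS htB)
      rwa [commutatorElement_def, htg, Subgroup.mem_center_iff.1 hζc t,
        mul_inv_cancel_right] at h1
    intro Q
    obtain ⟨c, hc⟩ := MulAction.exists_smul_eq G S Q
    subst hc
    rw [← Subgroup.card_map_of_injective (f := ((c • S : Sylow m G) : Subgroup G).subtype)
        (Subgroup.subtype_injective _), Subgroup.map_subtype_commutator, Sylow.coe_subgroup_smul]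
    show Nat.card (⁅(S : Subgroup G).map (MulAut.conj c).toMonoidHom,
      (S : Subgroup G).map (MulAut.conj c).toMonoidHom⁆ : Subgroup G) = m
    rw [← Subgroup.map_commutator, Subgroup.card_map_of_injective (MulAut.conj c).injective, hSS,
      Nat.card_zpowers]
    exact orderOf_eq_prime hζs hζ1

end CfsgLib.CoprimeSizes
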