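import Cfsg.Agent.CoprimeSizes.Shared

/-!
The case without `s`-elements of the smaller nontrivial class size is impossible.
-/

set_option autoImplicit false
set_option linter.unusedSectionVars false
set_option linter.style.haveILetI false

namespace CfsgLib.CoprimeSizes

open Subgroup CfsgLib.TwoLargest

variable {G : Type*} [Group G] [Finite G] {m n s : ℕ}

/-- An `s`-element of a subgroup of index `s` lies in the core of that subgroup. -/
theorem isS_mem_normalCore [hs : Fact s.Prime] {A : Subgroup G} (hA : A.index = s) {u : G}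
    (hu : IsS s u) (huA : u ∈ A) : u ∈ A.normalCore := by
  have h1 : A.normalCore.index ∣ A.index.factorial := by
    rw [Subgroup.normalCore_eq_ker, Subgroup.index_ker, Subgroup.index_eq_card, ← Nat.card_perm]
    exact Subgroup.card_subgroup_dvd_card (MulAction.toPermHom G (G ⧸ A)).range
  rw [← Subgroup.relIndex_mul_index (A.normalCore_le), hA, ← Nat.mul_factorial_pred hs.out.ne_zero,
    mul_comm s] at h1
  have h2 : A.normalCore.relIndex A ∣ (s - 1).factorial :=
    Nat.dvd_of_mul_dvd_mul_right hs.out.pos h1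
  have hco : s.Coprime (A.normalCore.relIndex A) :=
    Nat.Coprime.coprime_dvd_right h2 (hs.out.coprime_iff_not_dvd.2 fun hd => by
      have := hs.out.dvd_factorial.1 hd
      have := hs.out.pos
      omega)
  haveI : (A.normalCore.subgroupOf A).Normal := Subgroup.Normal.subgroupOf inferInstance A
  have h3 : u ^ A.normalCore.relIndex A ∈ A.normalCore :=
    Subgroup.pow_index_mem (A.normalCore.subgroupOf A) (⟨u, huA⟩ : A)
  obtain ⟨e, he⟩ := hu
  obtain ⟨j, hj⟩ := exists_pow_eq_self_of_coprime (x := u) (n := A.normalCore.relIndex A)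
    (by rw [he]; exact (hco.pow_left e).symm)
  rw [← hj]
  exact pow_mem h3 j

/-- An `s'`-element commuting with an `s`-element outside a subgroup of index `s` lies in it. -/
theorem mem_of_commute_outside [hs : Fact s.Prime] {A : Subgroup G} (hA : A.index = s) {u y : G}
    (hu : IsS s u) (huA : u ∉ A) (hy : (orderOf y).Coprime s) (huy : Commute u y) : y ∈ A := by
  have hco := coprime_orders hu hy
  have h1 : zpowers u ≤ zpowers (u * y) :=
    zpowers_le.2 (Cfsg.Agent.S4127.mem_left_of_mul huy hco)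
  have hle : ∀ U : Subgroup G, A.relIndex U ≤ s := fun U => by
    have := Subgroup.relIndex_le_of_le_right (H := A) (le_top : U ≤ ⊤)
      (by rw [Subgroup.relIndex_top_right, hA]; exact hs.out.ne_zero)
    rwa [Subgroup.relIndex_top_right, hA] at this
  have hne : A.relIndex (zpowers u) ≠ 1 := fun e =>
    huA (Subgroup.relIndex_eq_one.1 e (mem_zpowers u))
  have h2 : s ≤ A.relIndex (zpowers u) := by
    obtain ⟨i, hi⟩ := (isPGroup_zpowers hu).index (A.subgroupOf (zpowers u))
    rw [Subgroup.relIndex, hi] at hne ⊢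
    exact Nat.le_self_pow (fun e => hne (by rw [e, pow_zero])) s
  have h3 : A.relIndex (zpowers u) ≤ A.relIndex (zpowers (u * y)) :=
    Subgroup.relIndex_le_of_le_right h1 (Subgroup.index_ne_zero_of_finite
      (H := A.subgroupOf (zpowers (u * y))))
  have h4 : A.relIndex (zpowers (u * y)) = s := le_antisymm (hle _) (h2.trans h3)
  have h5 : (u * y) ^ s ∈ A := by
    haveI : (A.subgroupOf (zpowers (u * y))).Normal := inferInstance
    have := Subgroup.pow_index_mem (A.subgroupOf (zpowers (u * y)))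
      (⟨u * y, mem_zpowers _⟩ : zpowers (u * y))
    rw [← Subgroup.relIndex, h4] at this
    exact this
  rw [huy.mul_pow, ((huy.pow_left s).pow_right s).eq] at h5
  have h6 : y ^ s ∈ A := zpowers_le.2 h5 (Cfsg.Agent.S4127.mem_left_of_mul
    ((huy.pow_left s).pow_right s).symm
    (hco.symm.coprime_dvd_left (orderOf_pow_dvd s) |>.coprime_dvd_right (orderOf_pow_dvd s)))
  obtain ⟨j, hj⟩ := exists_pow_eq_self_of_coprime (x := y) hy.symm
  rw [← hj]
  exact pow_mem h6 j

/-- The subgroup generated by the `s'`-elements of the centraliser of `a`. -/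
def Lp (s : ℕ) (a : G) : Subgroup G := closure {v | v ∈ C a ∧ (orderOf v).Coprime s}

theorem Hyp.C_le_of_commute (h : Hyp G m n)
    (hno : ∀ a : G, IsS s a → a ∉ center G → k a = m * n) {a y : G} (ha : IsS s a)
    (hac : a ∉ center G) (hy : (orderOf y).Coprime s) (hay : Commute a y) : C a ≤ C y := by
  have hco := coprime_orders ha hy
  have hle : C (a * y) ≤ C a := C_mul hay hco ▸ inf_le_left
  have h1 : k (a * y) ≤ k a := by
    by_cases hc : a * y ∈ center G
    · rw [k_of_center hc]; exact k_pos a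
    · rw [hno a ha hac]
      rcases h.sizes _ hc with e | e <;> rw [e]
      exact Nat.le_mul_of_pos_right m (by have := h.one_lt_n; omega)
  exact C_eq_of_le hle h1 ▸ (C_mul hay hco ▸ inf_le_right)

theorem Hyp.Lp_spec (h : Hyp G m n) [hs : Fact s.Prime] (hsm : s ∣ m)
    (hno : ∀ a : G, IsS s a → a ∉ center G → k a = m * n) {a : G} (ha : IsS s a)
    (hac : a ∉ center G) :
    (∀ v, v ∈ Lp s a ↔ v ∈ C a ∧ (orderOf v).Coprime s) ∧
      (∀ v ∈ Lp s a, ∀ u ∈ C a, Commute v u) ∧
      cS G m s * Nat.card (Lp s a) = Nat.card (C a) := by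
  have hgen : ∀ v, v ∈ C a → (orderOf v).Coprime s → ∀ u ∈ C a, Commute v u := fun v hv hvs u hu =>
    mem_C.1 (h.C_le_of_commute hno ha hac hvs (mem_C.1 hv) hu)
  have hall : ∀ v ∈ Lp s a, (v ∈ C a ∧ (orderOf v).Coprime s) ∧ ∀ u ∈ C a, Commute v u := by
    intro v hv
    induction hv using closure_induction with
    | mem v hv => exact ⟨hv, hgen v hv.1 hv.2⟩
    | one => exact ⟨⟨one_mem _, by simp⟩, fun u _ => Commute.one_left u⟩
    | mul v w _ _ hv hw =>
      refine ⟨⟨mul_mem hv.1.1 hw.1.1, ?_⟩, fun u hu => (hv.2 u hu).mul_left (hw.2 u hu)⟩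
      exact (hv.1.2.mul_left hw.1.2).coprime_dvd_left (hv.2 w hw.1.1).orderOf_mul_dvd_mul_orderOf
    | inv v _ hv =>
      exact ⟨⟨inv_mem hv.1.1, by rw [orderOf_inv]; exact hv.1.2⟩, fun u hu => (hv.2 u hu).inv_left⟩
  refine ⟨fun v => ⟨fun hv => (hall v hv).1, fun hv => subset_closure hv⟩,
    fun v hv => (hall v hv).2, ?_⟩
  obtain ⟨hTm, hTc, hTp, hTcomm⟩ := h.T_spec hsm ha hac
  have hsup : T s a ⊔ Lp s a = C a := by
    refine le_antisymm (sup_le (T_le_C s a) fun v hv => (hall v hv).1.1) fun v hv => ?_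
    obtain ⟨x, y, hxy, hx, hy, hxe, hys⟩ := CfsgLib.FGSBSmall.exists_prime_split hs.out v
    rw [← hxy]
    exact mul_mem (mem_sup_left ((hTm x).2 ⟨zpowers_le.2 hv hx, hxe⟩))
      (mem_sup_right (subset_closure ⟨zpowers_le.2 hv hy, hys⟩))
  have hinf : T s a ⊓ Lp s a = ⊥ := eq_bot_iff.2 fun v hv =>
    Subgroup.mem_bot.2 (eq_one_of_isS ((hTm v).1 hv.1).2 (hall v hv.2).1.2)
  have hn : T s a ≤ normalizer (Lp s a : Set G) := fun t ht => mem_normalizer_iff.2 fun v => by
    constructor <;> intro hv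
    · rwa [← ((hall v hv).2 t (T_le_C s a ht)).eq, mul_inv_cancel_right]
    · have e := (hall _ hv).2 t⁻¹ (inv_mem (T_le_C s a ht))
      have e' : t * v * t⁻¹ = v := by
        have h2 := e.eq
        rw [show t⁻¹ * (t * v * t⁻¹) = v * t⁻¹ by group] at h2
        exact mul_right_cancel h2
      rwa [e'] at hv
  have h1 := Solvable.card_sup_mul_card_inf (A := T s a) (K := Lp s a) hn
  rwa [hsup, hinf, Subgroup.card_bot, mul_one, hTc, eq_comm] at h1

theorem Hyp.case_other (h : Hyp G m n) [hs : Fact s.Prime] {e : ℕ} (hme : m = s ^ e)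
    (hno : ∀ x : G, IsS s x → k x ≠ m) : False := by
  classical
  have hsp := hs.out
  have he0 : e ≠ 0 := fun e0 => by
    have := h.one_lt_m
    rw [hme, e0, pow_zero] at this
    omega
  have hsm : s ∣ m := hme ▸ dvd_pow_self s he0
  have hno' : ∀ a : G, IsS s a → a ∉ center G → k a = m * n := fun a ha hac =>
    (h.sizes a hac).resolve_left (hno a ha)
  have hn1 := h.one_lt_n
  have hm1 := h.one_lt_m
  -- an `s'`-element with the small class
  obtain ⟨ρ, hρs, hkρ⟩ : ∃ ρ : G, (orderOf ρ).Coprime s ∧ k ρ = m := by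
    obtain ⟨y, hy⟩ := h.exists_m
    obtain ⟨a, b, hab, ha, hb, hae, hbs⟩ := CfsgLib.FGSBSmall.exists_prime_split hsp y
    have hle : ∀ c ∈ zpowers y, C y ≤ C c := fun c hc v hv =>
      mem_C.2 (Cfsg.Agent.S4127.commute_of_mem_zpowers (mem_C.1 hv) hc)
    have hac : a ∈ center G := by
      by_contra hac
      have := Nat.le_of_dvd (by omega) (hy ▸ k_dvd (hle a ha))
      rw [hno' a hae hac] at this
      nlinarith
    have hbc : b ∉ center G := fun hbc => h.k_ne_one (Or.inl hy) (hab ▸ mul_mem hac hbc)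
    refine ⟨b, hbs, Nat.dvd_antisymm (hy ▸ k_dvd (hle b hb)) (h.m_dvd hbc)⟩
  have hρc := h.k_ne_one (Or.inl hkρ)
  have hCρ : ∀ a : G, IsS s a → a ∉ center G → Commute a ρ → C a ≤ C ρ := fun a ha hac hc =>
    h.C_le_of_commute hno' ha hac hρs hc
  obtain ⟨a₀, ha₀, ha₀c, hρa₀⟩ := h.exists_commuting hsm hρc
  -- every noncentral `s`-element is centralised by a noncentral `s'`-element
  have hLne : ∀ a : G, IsS s a → a ∉ center G → ∃ l ∈ Lp s a, l ∉ center G := by
    intro a ha hac
    by_contra hc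
    push Not at hc
    obtain ⟨hm₀, -, hc₀⟩ := h.Lp_spec hsm hno' ha₀ ha₀c
    obtain ⟨hma, -, hca⟩ := h.Lp_spec hsm hno' ha hac
    have hle : Lp s a ≤ Lp s a₀ := fun v hv =>
      (hm₀ v).2 ⟨center_le_C a₀ (hc v hv), ((hma v).1 hv).2⟩
    have e1 : Nat.card (C a) = Nat.card (C a₀) := by
      have h1 := (C a).card_mul_index
      rw [show (C a).index = k a from rfl, hno' a ha hac, ← (C a₀).card_mul_index,
        show (C a₀).index = k a₀ from rfl, hno' a₀ ha₀ ha₀c] at h1
      exact Nat.eq_of_mul_eq_mul_right (by nlinarith) h1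
    rw [← hca, ← hc₀] at e1
    have e2 := Nat.eq_of_mul_eq_mul_left (pow_pos hsp.pos _) e1
    have e3 : Lp s a = Lp s a₀ := Subgroup.eq_of_le_of_card_ge hle e2.ge
    exact hρc (hc ρ (e3 ▸ (hm₀ ρ).2 ⟨mem_C.2 hρa₀.symm, hρs⟩))
  -- `m = s`
  have hm_eq : m = s := by
    obtain ⟨S⟩ : Nonempty (Sylow s G) := inferInstance
    have hSZ : ¬ (S : Subgroup G) ≤ center G := fun hc => by
      obtain ⟨x, hx⟩ := h.exists_m
      exact S.not_dvd_index (hsm.trans (hx ▸ Subgroup.index_dvd_of_le (hc.trans (center_le_C x))))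
    obtain ⟨b, hbS, hbc, hbs, hbcomm⟩ :=
      exists_commutator_central S.2 le_rfl Subgroup.le_normalizer hSZ
    have hb := isS_of_mem S.2 hbS
    obtain ⟨hTm, hTc, hTp, -⟩ := h.T_spec hsm hb hbc
    have hnC : (S : Subgroup G) ≤ normalizer ((C b : Subgroup G) : Set G) := fun g hg =>
      mem_normalizer_C (hbcomm g hg)
    have hnT : (S : Subgroup G) ≤ normalizer (T s b : Set G) := fun g hg =>
      mem_normalizer_T (hnC hg)
    have hTS : T s b ≤ S := by
      have h1 := S.3 (hTp.to_sup_of_normal_left' S.2 hnT) le_sup_right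
      exact h1 ▸ le_sup_left
    obtain ⟨hLm, hLcomm, -⟩ := h.Lp_spec hsm hno' hb hbc
    have hnL : (S : Subgroup G) ≤ normalizer (Lp s b : Set G) := fun g hg =>
      mem_normalizer_iff.2 fun v => by
        rw [hLm, hLm, (show orderOf (g * v * g⁻¹) = orderOf v from (MulAut.conj g).orderOf_eq v),
          ← mem_normalizer_iff.1 (hnC hg) v]
    obtain ⟨l₀, hl₀, hl₀c⟩ := hLne b hb hbc
    have hcardS : Nat.card (S : Subgroup G) = s ^ (Nat.card G).factorization s :=
      S.card_eq_multiplicity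
    have hem : m.factorization s = e := by
      rw [hme, hsp.factorization_pow, Finsupp.single_eq_same]
    have hev : e ≤ (Nat.card G).factorization s := by
      refine (hsp.pow_dvd_iff_le_factorization Nat.card_pos.ne').1 ?_
      rw [← hme, ← hkρ]
      exact Subgroup.index_dvd_card (C ρ)
    have hne : T s b ≠ S := fun e1 => by
      rw [e1, hcardS, cS, hem] at hTc
      have := Nat.pow_right_injective hsp.two_le hTc
      omega
    have hidx : (T s b).relIndex (S : Subgroup G) = s := by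
      refine relIndex_eq_prime S.2 hTS hnT hne hnL
        (fun u hu v hv => hLcomm u hu v ((hLm v).1 hv).1)
        (fun t ht l hl => (hLcomm l hl t (T_le_C s b ht)).symm)
        (fun u hu hub l hl hc => by_contra fun hlc => hub (h.mem_of_normalize hsm hlc hTp hTc
          (fun t ht => mem_C.2 (hLcomm l hl t (T_le_C s b ht))) (isS_of_mem S.2 hu) (mem_C.2 hc.symm)
          (hnT hu)))
        (fun u hu => (hTm _).2 ⟨pow_mem_C (hbcomm u hu) hbs, isS_of_mem S.2 (pow_mem hu s)⟩)
        hl₀ hl₀c ((hLm l₀).1 hl₀).2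
    have h1 := Subgroup.relIndex_mul_relIndex (⊥ : Subgroup G) (T s b) (S : Subgroup G) bot_le hTS
    rw [Subgroup.relIndex_bot_left, Subgroup.relIndex_bot_left, hidx, hTc, hcardS, cS, hem,
      ← pow_succ] at h1
    have := Nat.pow_right_injective hsp.two_le h1
    rw [hme, show e = 1 by omega, pow_one]
  subst hm_eq
  -- an `s`-element outside `C ρ`
  obtain ⟨u, hu, huρ⟩ : ∃ u : G, IsS m u ∧ u ∉ C ρ := by
    obtain ⟨S⟩ : Nonempty (Sylow m G) := inferInstance
    by_contra hc
    push Not at hc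
    exact S.not_dvd_index (hkρ.symm.dvd.trans
      (Subgroup.index_dvd_of_le fun v hv => hc v (isS_of_mem S.2 hv)))
  have huc : u ∉ center G := fun hc => huρ (center_le_C ρ hc)
  obtain ⟨w, hwL, hwc⟩ := hLne u hu huc
  obtain ⟨hLm, -, -⟩ := h.Lp_spec hsm hno' hu huc
  obtain ⟨hwu, hws⟩ := (hLm w).1 hwL
  have hwρ : w ∈ C ρ := mem_of_commute_outside hkρ hu huρ hws (mem_C.1 hwu)
  have hCu : C u ≤ C w := h.C_le_of_commute hno' hu huc hws (mem_C.1 hwu)
  have hkw : k w = m := by
    refine (h.sizes w hwc).resolve_right fun hk => huρ ?_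
    have e1 : C u = C w := C_eq_of_le hCu (by rw [hno' u hu huc, hk])
    have h2 : ρ ∈ C u := e1.symm ▸ mem_C.2 (mem_C.1 hwρ).symm
    exact mem_C.2 (mem_C.1 h2).symm
  set K := (C ρ).normalCore
  set K' := (C w).normalCore
  have huw : u ∈ C w := hCu (self_mem_C u)
  obtain ⟨hTum, hTuc, hTup, -⟩ := h.T_spec hsm hu huc
  -- no noncentral `s`-element lies in both centralisers
  have M2 : ∀ a : G, IsS m a → a ∈ C ρ → a ∈ C w → a ∈ center G := by
    intro a ha haρ haw
    by_contra hac
    have haK : a ∈ K := isS_mem_normalCore hkρ ha haρ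
    obtain ⟨c, -, hc⟩ := h.exists_conj_mem hsm hwc hTup hTuc ((T_le_C m u).trans hCu) ha haw
    have hzρ : c * a * c⁻¹ ∈ C ρ :=
      (C ρ).normalCore_le (Subgroup.Normal.conj_mem (C ρ).normalCore_normal a haK c)
    have hzc : c * a * c⁻¹ ∉ center G := fun hz => hac (by
      have := Subgroup.Normal.conj_mem (inferInstance : (center G).Normal) _ hz c⁻¹
      simpa [mul_assoc] using this)
    exact huρ (hCρ _ (isS_conj ha c) hzc (mem_C.1 hzρ).symm
      (mem_C.2 (mem_C.1 (T_le_C m u hc)).symm))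
  -- the product `ρ * w`
  have hρw : Commute ρ w := mem_C.1 hwρ
  have hpc : ρ * w ∉ center G := by
    intro hc
    refine huρ (mem_C.2 ?_)
    have h1 : Commute (ρ * w) u := (Subgroup.mem_center_iff.1 hc u).symm
    have h2 := h1.mul_left (mem_C.1 huw).inv_left
    rwa [mul_inv_cancel_right] at h2
  obtain ⟨g, hg, hgc, hgp⟩ := h.exists_commuting hsm hpc
  set δ := ρ⁻¹ * (g * ρ * g⁻¹) with hδ
  have hδw : δ = w * (g * w⁻¹ * g⁻¹) := by
    have e1 : g * (ρ * w) * g⁻¹ = ρ * w := by rw [← hgp.eq, mul_inv_cancel_right]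
    rw [hδ, show g * ρ * g⁻¹ = g * (ρ * w) * g⁻¹ * (g * w⁻¹ * g⁻¹) by group, e1]
    group
  have hKc : ∀ z : G, ∀ v ∈ (C z).normalCore, Commute v z ∧ ∀ d, Commute v (d * z * d⁻¹) := by
    intro z v hv
    refine ⟨(mem_C.1 ((C z).normalCore_le hv)).symm, fun d => ?_⟩
    have h1 := (mem_C.1 ((C z).normalCore_le
      (Subgroup.Normal.conj_mem (C z).normalCore_normal v hv d⁻¹))).map (MulAut.conj d).toMonoidHom
    simpa [mul_assoc] using h1.symm
  have hKδ : K ≤ C δ := fun v hv => mem_C.2 (by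
    obtain ⟨h1, h2⟩ := hKc ρ v hv
    exact (h1.inv_right.mul_right (h2 g)).symm)
  have hδc : δ ∈ center G := by
    by_contra hδc
    have huK' : u ∈ K' := isS_mem_normalCore hkw hu huw
    have huδ : u ∈ C δ := mem_C.2 (by
      obtain ⟨h1, h2⟩ := hKc w u huK'
      rw [hδw]
      refine (h1.mul_right ?_).symm
      have h3 := (h2 g).inv_right
      simpa [mul_assoc] using h3)
    obtain ⟨P, hP, hPρ, hcP⟩ := h.exists_card hsm hρc
    have hPK : P ≤ K := fun v hv => isS_mem_normalCore hkρ (isS_of_mem hP hv) (hPρ hv)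
    obtain ⟨c, -, hc⟩ := h.exists_conj_mem hsm hδc hP hcP (hPK.trans hKδ) hu huδ
    have h1 := Subgroup.Normal.conj_mem (C ρ).normalCore_normal _ (hPK hc) c⁻¹
    exact huρ ((C ρ).normalCore_le (by simpa [mul_assoc] using h1))
  have hδ1 : δ = 1 := by
    have h1 := conj_pow_eq (b := ρ) (g := g) hδc (orderOf g)
    rw [pow_orderOf_eq_one, one_mul, inv_one, mul_one] at h1
    have h2 : δ ^ orderOf g = 1 := mul_left_cancel (h1.symm.trans (mul_one ρ).symm)
    have h3 : δ ^ orderOf ρ = 1 := by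
      rw [hδ, (show Commute ρ⁻¹ (g * ρ * g⁻¹) from ?_).mul_pow, inv_pow, conj_pow,
        pow_orderOf_eq_one]
      · simp
      · have h4 : Commute ρ⁻¹ (ρ⁻¹ * (g * ρ * g⁻¹)) := Subgroup.mem_center_iff.1 hδc ρ⁻¹
        have h5 := h4.mul_right (Commute.refl ρ).inv_left
        have h6 : ρ⁻¹ * (g * ρ * g⁻¹) * ρ = g * ρ * g⁻¹ := by
          rw [← (Subgroup.mem_center_iff.1 hδc ρ), mul_inv_cancel_left]
        rwa [h6] at h5
    exact orderOf_eq_one_iff.1 (Nat.eq_one_of_dvd_coprimes (coprime_orders hg hρs)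
      (orderOf_dvd_of_pow_eq_one h2) (orderOf_dvd_of_pow_eq_one h3))
  have hgρ : Commute g ρ := by
    rw [hδ, inv_mul_eq_one] at hδ1
    exact mul_inv_eq_iff_eq_mul.1 hδ1.symm
  have hgw : Commute g w := by
    have := hgρ.inv_right.mul_right hgp.symm
    rwa [inv_mul_cancel_left] at this
  exact hgc (M2 g hg (mem_C.2 hgρ.symm) (mem_C.2 hgw.symm))

end CfsgLib.CoprimeSizes
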