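import Cfsg.Agent.CoprimeSizes.Basic
import Cfsg.Agent.FGSB.SemiregularPair

/-!
The smaller nontrivial class size is a prime power.
-/

set_option autoImplicit false
set_option linter.unusedSectionVars false
set_option linter.style.haveILetI false

namespace CfsgLib.CoprimeSizes

open Subgroup CfsgLib.TwoLargest

variable {G : Type*} [Group G] [Finite G] {m n p q : ℕ}

theorem Hyp.key_pair (h : Hyp G m n) [hp : Fact p.Prime] [hq : Fact q.Prime] (hpq : p ≠ q)
    (hpm : p ∣ m) (hqm : q ∣ m) {x y : G} (hx : IsS p x) (hxc : x ∉ center G) (hy : IsS q y)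
    (hyc : y ∉ center G) (hxy : Commute x y) :
    T p x ≤ centralizer (T q y : Set G) ∧ ∀ v ∈ centralizer (T q y : Set G),
      (IsS p v → v ∈ T p x) ∧ ((orderOf v).Coprime p → ∀ t ∈ T p x, Commute v t) := by
  classical
  obtain ⟨hTm, hTc, hTp, hTcomm⟩ := h.T_spec hpm hx hxc
  obtain ⟨hUm, hUc, hUq, hUcomm⟩ := h.T_spec hqm hy hyc
  set D := centralizer (T q y : Set G)
  have hyU : y ∈ T q y := (hUm y).2 ⟨self_mem_C y, hy⟩
  have hDC : D ≤ C y := fun v hv => mem_C.2 (Subgroup.mem_centralizer_iff.1 hv y hyU)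
  have hyp : (orderOf y).Coprime p := coprime_of_isS hp.out hq.out hpq.symm hy
  have hTy : T p x ≤ C y := fun t ht => mem_C.2 (hTcomm y (mem_C.2 hxy) hyp t ht)
  have hpD : ∀ P : Subgroup G, IsPGroup p P → P ≤ C y → P ≤ D := fun P hP hPy v hv =>
    Subgroup.mem_centralizer_iff.2 fun u hu =>
      (hUcomm v (hPy hv) (coprime_of_isS hq.out hp.out hpq (isS_of_mem hP hv)) u hu).symm.eq
  have hTD : T p x ≤ D := hpD _ hTp hTy
  have hsyl : ∀ P : Subgroup G, IsPGroup p P → P ≤ D → Nat.card P = cS G m p →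
      ∀ R : Sylow p D, P.subgroupOf D ≤ R → (R : Subgroup D) = P.subgroupOf D := by
    intro P hP hPD hcP R hR
    refine (Subgroup.eq_of_le_of_card_ge hR ?_).symm
    rw [Nat.card_congr (Subgroup.subgroupOfEquivOfLe hPD).toEquiv, hcP,
      ← card_map_of_injective (f := D.subtype) D.subtype_injective]
    exact Nat.le_of_dvd (pow_pos hp.out.pos _) (h.card_dvd hpm hyc (R.2.map _)
      ((map_subtype_le _).trans hDC))
  have hkey : ∀ v : D, (orderOf v).Coprime p → ¬ p ∣ (centralizer ({v} : Set D)).index := by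
    intro v hv
    obtain ⟨a, b, hab, ha, hb, hae, hbq⟩ := CfsgLib.FGSBSmall.exists_prime_split hq.out (v : G)
    have hav : a ∈ D := zpowers_le.2 v.2 ha
    have hbv : b ∈ D := zpowers_le.2 v.2 hb
    have haU : a ∈ T q y := (hUm a).2 ⟨hDC hav, hae⟩
    have hyb : Commute y b := mem_C.1 (hDC hbv)
    have hyb' := coprime_orders hy hbq
    have hwc : y * b ∉ center G := fun hc => hyc (mem_center_of_k (Nat.dvd_one.1
      (k_of_center hc ▸ k_dvd_mul_left hyb hyb')))
    obtain ⟨P, hP, hPw, hcP⟩ := h.exists_card hpm hwc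
    rw [C_mul hyb hyb'] at hPw
    have hPD : P ≤ D := hpD P hP (hPw.trans inf_le_left)
    have hPc : P.subgroupOf D ≤ centralizer ({v} : Set D) := by
      intro u hu
      have h1 : Commute b (u : G) := mem_C.1 ((Subgroup.mem_inf.1 (hPw hu)).2)
      have h2 : Commute a (u : G) := Subgroup.mem_centralizer_iff.1 u.2 a haU
      exact mem_C.2 (Subtype.ext (by
        show (v : G) * u = u * v
        rw [← hab]; exact (h2.mul_left h1).eq))
    obtain ⟨R, hR⟩ := (hP.comap_subtype (K := D)).exists_le_sylow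
    intro hd
    refine R.not_dvd_index (hd.trans (Subgroup.index_dvd_of_le ?_))
    rw [hsyl P hP hPD hcP R hR]
    exact hPc
  obtain ⟨R, hR⟩ := (hTp.comap_subtype (K := D)).exists_le_sylow
  have hRe := hsyl _ hTp hTD hTc R hR
  obtain ⟨hRn, hRc⟩ := Cfsg.Agent.S4127.sylow_of_centralizers R hkey
  refine ⟨hTD, fun v hv => ⟨fun hvp => ?_, fun hvp t ht => ?_⟩⟩
  · obtain ⟨e, he⟩ := hvp
    obtain ⟨R', hR'⟩ := (IsPGroup.of_card (p := p) (G := zpowers (⟨v, hv⟩ : D)) (n := e)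
      (by rw [Nat.card_zpowers, Subgroup.orderOf_mk, he])).exists_le_sylow
    haveI := Sylow.unique_of_normal R hRn
    rw [Subsingleton.elim R' R, hRe] at hR'
    exact hR' (mem_zpowers _)
  · exact (hRc ⟨v, hv⟩ (by rwa [Subgroup.orderOf_mk]) ⟨t, hTD ht⟩ (hRe ▸ ht)).map D.subtype

theorem Hyp.T_eq (h : Hyp G m n) [hp : Fact p.Prime] [hq : Fact q.Prime] (hpq : p ≠ q)
    (hpm : p ∣ m) (hqm : q ∣ m) {x y : G} (hx : IsS p x) (hxc : x ∉ center G) (hy : IsS q y)
    (hyc : y ∉ center G) (hxy : Commute x y) {z : G} (hz : z ∈ T p x) (hzc : z ∉ center G) :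
    T p x = T p z ∧ Commute z y := by
  obtain ⟨hTm, hTc, hTp, hTcomm⟩ := h.T_spec hpm hx hxc
  obtain ⟨hUm, -, -, -⟩ := h.T_spec hqm hy hyc
  obtain ⟨hTD, -⟩ := h.key_pair hpq hpm hqm hx hxc hy hyc hxy
  have hzp := ((hTm z).1 hz).2
  have hzy : Commute z y := (Subgroup.mem_centralizer_iff.1 (hTD hz) y
    ((hUm y).2 ⟨self_mem_C y, hy⟩)).symm
  obtain ⟨-, hkey⟩ := h.key_pair hpq hpm hqm hzp hzc hy hyc hzy
  obtain ⟨-, hzc', -, -⟩ := h.T_spec hpm hzp hzc
  exact ⟨Subgroup.eq_of_le_of_card_ge (fun t ht => (hkey t (hTD ht)).1 ((hTm t).1 ht).2)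
    (hTc.symm ▸ hzc'.le), hzy⟩

theorem Hyp.T_commute (h : Hyp G m n) [hp : Fact p.Prime] [hq : Fact q.Prime] (hpq : p ≠ q)
    (hpm : p ∣ m) (hqm : q ∣ m) {x y : G} (hx : IsS p x) (hxc : x ∉ center G) (hy : IsS q y)
    (hyc : y ∉ center G) (hxy : Commute x y) : ∀ z ∈ T p x, ∀ t ∈ T p x, Commute z t := by
  intro z hz t ht
  by_cases hzc : z ∈ center G
  · exact (Subgroup.mem_center_iff.1 hzc t).symm
  · rw [(h.T_eq hpq hpm hqm hx hxc hy hyc hxy hz hzc).1] at ht
    exact mem_C.1 (T_le_C p z ht)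

theorem Hyp.C_le (h : Hyp G m n) [hp : Fact p.Prime] [hq : Fact q.Prime] (hpq : p ≠ q)
    (hpm : p ∣ m) (hqm : q ∣ m) {x y : G} (hx : IsS p x) (hxc : x ∉ center G) (hy : IsS q y)
    (hyc : y ∉ center G) (hxy : Commute x y) : C x ≤ C y := by
  obtain ⟨hTm, -, -, hTcomm⟩ := h.T_spec hpm hx hxc
  obtain ⟨hUm, -, -, -⟩ := h.T_spec hqm hy hyc
  obtain ⟨-, hkey⟩ := h.key_pair hpq.symm hqm hpm hy hyc hx hxc hxy.symm
  have hTab := h.T_commute hpq hpm hqm hx hxc hy hyc hxy
  have hUab := h.T_commute hpq.symm hqm hpm hy hyc hx hxc hxy.symm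
  have hC : C x ≤ centralizer (T p x : Set G) := by
    intro v hv
    obtain ⟨a, b, hab, ha, hb, hae, hbp⟩ := CfsgLib.FGSBSmall.exists_prime_split hp.out v
    refine Subgroup.mem_centralizer_iff.2 fun t ht => ?_
    rw [← hab]
    exact ((hTab a ((hTm a).2 ⟨zpowers_le.2 hv ha, hae⟩) t ht).mul_left
      (hTcomm b (zpowers_le.2 hv hb) hbp t ht)).symm.eq
  intro v hv
  obtain ⟨a, b, hab, ha, hb, hae, hbq⟩ := CfsgLib.FGSBSmall.exists_prime_split hq.out v
  have hyU : y ∈ T q y := (hUm y).2 ⟨self_mem_C y, hy⟩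
  rw [← hab]
  exact mem_C.2 (((hUab a ((hkey a (zpowers_le.2 (hC hv) ha)).1 hae) y hyU).mul_left
    ((hkey b (zpowers_le.2 (hC hv) hb)).2 hbq y hyU)).symm)

theorem Hyp.C_eq (h : Hyp G m n) [hp : Fact p.Prime] [hq : Fact q.Prime] (hpq : p ≠ q)
    (hpm : p ∣ m) (hqm : q ∣ m) {x y : G} (hx : IsS p x) (hxc : x ∉ center G) (hy : IsS q y)
    (hyc : y ∉ center G) (hxy : Commute x y) :
    C x = C y ∧ ∀ z ∈ T p x, z ∉ center G → C z = C x := by
  have key : ∀ z : G, IsS p z → z ∉ center G → Commute z y → C z = C y := fun z hz hzc hzy =>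
    le_antisymm (h.C_le hpq hpm hqm hz hzc hy hyc hzy)
      (h.C_le hpq.symm hqm hpm hy hyc hz hzc hzy.symm)
  refine ⟨key x hx hxc hxy, fun z hz hzc => ?_⟩
  obtain ⟨hTm, -, -, -⟩ := h.T_spec hpm hx hxc
  rw [key x hx hxc hxy]
  exact key z ((hTm z).1 hz).2 hzc (h.T_eq hpq hpm hqm hx hxc hy hyc hxy hz hzc).2

/-- A `p`-element outside `C x` normalising `C x`. -/
theorem Hyp.exists_outside (h : Hyp G m n) [hp : Fact p.Prime] (hpm : p ∣ m) {x : G} (hx : IsS p x)
    (hxc : x ∉ center G) (hC : ∀ z ∈ T p x, z ∉ center G → C z = C x) :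
    ∃ u : G, IsS p u ∧ u ∈ normalizer ((C x : Subgroup G) : Set G) ∧ u ∉ C x := by
  obtain ⟨hTm, hTc, hTp, -⟩ := h.T_spec hpm hx hxc
  obtain ⟨S, hS⟩ := hTp.exists_le_sylow
  have hne : T p x ≠ S := by
    intro e
    have h1 : Nat.card (T p x) = p ^ (Nat.card G).factorization p := by
      rw [e]; exact S.card_eq_multiplicity
    rw [hTc, cS] at h1
    have h2 := Nat.pow_right_injective hp.out.two_le h1
    have h3 : 1 ≤ m.factorization p :=
      (hp.out.dvd_iff_one_le_factorization (by have := h.one_lt_m; omega)).1 hpm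
    have h4 : p ∣ Nat.card G := by
      obtain ⟨w, hw⟩ := h.exists_m
      exact hpm.trans (hw ▸ Subgroup.index_dvd_card (C w))
    have h5 := (hp.out.dvd_iff_one_le_factorization Nat.card_pos.ne').1 h4
    omega
  obtain ⟨u, huS, hun, huT⟩ := CfsgLib.LocalB.exists_mem_normalizer_not_mem S.2 hS hne
  have hu := isS_of_mem S.2 huS
  have hCc : C x = centralizer (T p x : Set G) := by
    refine le_antisymm (fun v hv => Subgroup.mem_centralizer_iff.2 fun t ht => ?_) fun v hv =>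
      mem_C.2 (Subgroup.mem_centralizer_iff.1 hv x ((hTm x).2 ⟨self_mem_C x, hx⟩))
    by_cases htc : t ∈ center G
    · exact (Subgroup.mem_center_iff.1 htc v).symm
    · exact (mem_C.1 ((hC t ht htc).symm ▸ hv)).eq
  refine ⟨u, hu, ?_, fun hc => huT ((hTm u).2 ⟨hc, hu⟩)⟩
  rw [hCc]
  have key : ∀ a ∈ normalizer (T p x : Set G), ∀ v ∈ centralizer (T p x : Set G),
      a * v * a⁻¹ ∈ centralizer (T p x : Set G) := by
    intro a ha v hv
    refine Subgroup.mem_centralizer_iff.2 fun t ht => ?_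
    have e := Subgroup.mem_centralizer_iff.1 hv _ ((mem_normalizer_iff''.1 ha t).1 ht)
    calc t * (a * v * a⁻¹) = a * ((a⁻¹ * t * a) * v) * a⁻¹ := by group
      _ = a * v * a⁻¹ * t := by rw [e]; group
  refine mem_normalizer_iff.2 fun v => ⟨key u hun v, fun hv => ?_⟩
  simpa [mul_assoc] using key _ (inv_mem hun) _ hv

/-- The smaller nontrivial class size has only one prime divisor. -/
theorem Hyp.prime_unique (h : Hyp G m n) [hp : Fact p.Prime] [hq : Fact q.Prime]
    (hpm : p ∣ m) (hqm : q ∣ m) : p = q := by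
  by_contra hpq
  obtain ⟨x, hx, hxc⟩ := h.exists_noncentral hpm
  obtain ⟨y, hy, hyc, hxy⟩ := h.exists_commuting hqm hxc
  obtain ⟨hCxy, hCx⟩ := h.C_eq hpq hpm hqm hx hxc hy hyc hxy
  obtain ⟨-, hCy⟩ := h.C_eq (Ne.symm hpq) hqm hpm hy hyc hx hxc hxy.symm
  obtain ⟨u, hu, hun, huC⟩ := h.exists_outside hpm hx hxc hCx
  obtain ⟨u', hu', hun', huC'⟩ := h.exists_outside hqm hy hyc hCy
  obtain ⟨hTm, hTc, hTp, -⟩ := h.T_spec hpm hx hxc
  obtain ⟨hUm, hUc, hUq, -⟩ := h.T_spec hqm hy hyc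
  set N := normalizer ((C x : Subgroup G) : Set G) with hN
  have hN' : N = normalizer ((C y : Subgroup G) : Set G) := by rw [hN, hCxy]
  have hNT : N ≤ normalizer (T p x : Set G) := fun g hg => mem_normalizer_T hg
  have hNU : N ≤ normalizer (T q y : Set G) := fun g hg => mem_normalizer_T (hN' ▸ hg)
  rw [← hN'] at hun'
  rw [← hCxy] at huC'
  let cgX : CommGroup (T p x) := { (inferInstance : Group (T p x)) with
    mul_comm := fun a b => Subtype.ext
      (h.T_commute hpq hpm hqm hx hxc hy hyc hxy a a.2 b b.2).eq }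
  let cgY : CommGroup (T q y) := { (inferInstance : Group (T q y)) with
    mul_comm := fun a b => Subtype.ext
      (h.T_commute (Ne.symm hpq) hqm hpm hy hyc hx hxc hxy.symm a a.2 b b.2).eq }
  set K := (C x).subgroupOf N
  haveI : K.Normal := Subgroup.normal_in_normalizer
  have hKX : K ≤ ((T p x).normalizerMonoidHom.comp (Subgroup.inclusion hNT)).ker := by
    intro g hg
    refine MonoidHom.mem_ker.2 (MulEquiv.ext fun t => Subtype.ext ?_)
    show (g : G) * t * (g : G)⁻¹ = t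
    by_cases htc : (t : G) ∈ center G
    · rw [Subgroup.mem_center_iff.1 htc g, mul_inv_cancel_right]
    · rw [(mem_C.1 (show (g : G) ∈ C (t : G) from (hCx t t.2 htc).symm ▸ hg)).symm.eq,
        mul_inv_cancel_right]
  have hKY : K ≤ ((T q y).normalizerMonoidHom.comp (Subgroup.inclusion hNU)).ker := by
    intro g hg
    refine MonoidHom.mem_ker.2 (MulEquiv.ext fun t => Subtype.ext ?_)
    show (g : G) * t * (g : G)⁻¹ = t
    by_cases htc : (t : G) ∈ center G
    · rw [Subgroup.mem_center_iff.1 htc g, mul_inv_cancel_right]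
    · rw [(mem_C.1 (show (g : G) ∈ C (t : G) from
          ((hCy t t.2 htc).trans hCxy.symm).symm ▸ hg)).symm.eq, mul_inv_cancel_right]
  let ρX : N ⧸ K →* MulAut (T p x) := QuotientGroup.lift K _ hKX
  let ρY : N ⧸ K →* MulAut (T q y) := QuotientGroup.lift K _ hKY
  have semiX : SemiregularPair.Semi ρX ((center G).subgroupOf (T p x)) := by
    refine ⟨fun γ t ht => ?_, fun γ hγ t hfix => ?_⟩
    · obtain ⟨g, rfl⟩ := QuotientGroup.mk_surjective γ
      refine Subtype.ext ?_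
      show (g : G) * t * (g : G)⁻¹ = t
      rw [show (g : G) * t = t * g from Subgroup.mem_center_iff.1 ht g, mul_inv_cancel_right]
    · obtain ⟨g, rfl⟩ := QuotientGroup.mk_surjective γ
      by_contra htc
      refine hγ ((QuotientGroup.eq_one_iff g).2 ?_)
      show (g : G) ∈ C x
      rw [← hCx t t.2 htc]
      have e : (g : G) * t * (g : G)⁻¹ = t := congrArg Subtype.val hfix
      exact mem_C.2 (mul_inv_eq_iff_eq_mul.1 e).symm
  have semiY : SemiregularPair.Semi ρY ((center G).subgroupOf (T q y)) := by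
    refine ⟨fun γ t ht => ?_, fun γ hγ t hfix => ?_⟩
    · obtain ⟨g, rfl⟩ := QuotientGroup.mk_surjective γ
      refine Subtype.ext ?_
      show (g : G) * t * (g : G)⁻¹ = t
      rw [show (g : G) * t = t * g from Subgroup.mem_center_iff.1 ht g, mul_inv_cancel_right]
    · obtain ⟨g, rfl⟩ := QuotientGroup.mk_surjective γ
      by_contra htc
      refine hγ ((QuotientGroup.eq_one_iff g).2 ?_)
      show (g : G) ∈ C x
      rw [hCxy, ← hCy t t.2 htc]
      have e : (g : G) * t * (g : G)⁻¹ = t := congrArg Subtype.val hfix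
      exact mem_C.2 (mul_inv_eq_iff_eq_mul.1 e).symm
  have hZX : (center G).subgroupOf (T p x) ≠ ⊤ := fun e =>
    hxc (Subgroup.subgroupOf_eq_top.1 e ((hTm x).2 ⟨self_mem_C x, hx⟩))
  have hZY : (center G).subgroupOf (T q y) ≠ ⊤ := fun e =>
    hyc (Subgroup.subgroupOf_eq_top.1 e ((hUm y).2 ⟨self_mem_C y, hy⟩))
  have himg : ∀ (r : ℕ) [Fact r.Prime] (g : G) (hg : g ∈ N), IsS r g → g ∉ C x →
      (QuotientGroup.mk' K ⟨g, hg⟩) ≠ 1 ∧ IsPGroup r (zpowers (QuotientGroup.mk' K ⟨g, hg⟩)) := by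
    intro r _ g hg he hgC
    refine ⟨fun e => hgC ((QuotientGroup.eq_one_iff (N := K) (⟨g, hg⟩ : N)).1 e), ?_⟩
    rw [← MonoidHom.map_zpowers]
    refine IsPGroup.map ?_ _
    obtain ⟨e, he⟩ := he
    exact IsPGroup.of_card (n := e) (by rw [Nat.card_zpowers, Subgroup.orderOf_mk, he])
  obtain ⟨ht, htp⟩ := himg q u' hun' hu' huC'
  obtain ⟨ht', htp'⟩ := himg p u hun hu huC
  set t := QuotientGroup.mk' K ⟨u', hun'⟩
  obtain ⟨y₀, z, hz, hz1, hy₀⟩ := SemiregularPair.exists_move semiY hUq hZY ht htp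
  have hpΓ : p ∣ Nat.card (N ⧸ K) := by
    set t' := QuotientGroup.mk' K ⟨u, hun⟩
    obtain ⟨j, hj⟩ := htp'.exists_card_eq
    have h1 := Subgroup.card_subgroup_dvd_card (zpowers t')
    rw [hj] at h1
    refine (dvd_pow_self p ?_).trans h1
    rintro rfl
    rw [pow_zero, Nat.card_zpowers, orderOf_eq_one_iff] at hj
    exact ht' hj
  refine SemiregularPair.core hpq hTp hUq ρX ρY _ _ semiX semiY hZX hZY (MulAut.conj t) (ρY t)
    (ρX t) (fun γ w => ?_) (fun γ w => ?_) (semiY.1 t) (semiX.1 t) hy₀ hz hz1 hpΓ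
  · rw [← MulAut.mul_apply, ← map_mul, ← MulAut.mul_apply, ← map_mul, MulAut.conj_apply,
      inv_mul_cancel_right]
  · rw [← MulAut.mul_apply, ← map_mul, ← MulAut.mul_apply, ← map_mul, MulAut.conj_apply,
      inv_mul_cancel_right]

end CfsgLib.CoprimeSizes
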