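import Cfsg.Agent.CoprimeSizes.Basic
import Cfsg.Agent.FGSB.SemiregularPair

/-!
Tools for both cases of the theorem on class sizes `1`, `m`, `m * n` with `m` a prime power.
-/

set_option autoImplicit false
set_option linter.unusedSectionVars false
set_option linter.style.haveILetI false

namespace CfsgLib.CoprimeSizes

open Subgroup CfsgLib.TwoLargest

variable {G : Type*} [Group G] [Finite G] {m n s : ℕ}

theorem relIndex_dvd_k (L : Subgroup G) [L.Normal] (y : G) : (C y).relIndex L ∣ k y := by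
  have h1 := Solvable.card_sup_mul_card_inf (A := C y) (K := L)
    (by rw [Subgroup.normalizer_eq_top L]; exact le_top)
  have h2 := ((C y ⊓ L).subgroupOf L).card_mul_index
  rw [Nat.card_congr (Subgroup.subgroupOfEquivOfLe inf_le_right).toEquiv, ← Subgroup.relIndex,
    Subgroup.inf_relIndex_right] at h2
  rw [← h2, mul_comm (Nat.card ↥(C y)), mul_assoc,
    mul_comm (Nat.card ↥(C y ⊔ L)) (Nat.card ↥(C y ⊓ L))] at h1
  have h3 : Nat.card ↥(C y ⊔ L) = (C y).relIndex L * Nat.card ↥(C y) :=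
    Nat.eq_of_mul_eq_mul_left Nat.card_pos h1
  obtain ⟨c, hc⟩ := Subgroup.card_subgroup_dvd_card (C y ⊔ L)
  rw [h3, ← (C y).card_mul_index, mul_comm _ (Nat.card ↥(C y)), mul_assoc] at hc
  exact ⟨c, Nat.eq_of_mul_eq_mul_left Nat.card_pos hc⟩

theorem k_dvd_relIndex_mul (L : Subgroup G) (y : G) : k y ∣ (C y).relIndex L * L.index := by
  rw [← Subgroup.inf_relIndex_right, Subgroup.relIndex_mul_index inf_le_right]
  exact Subgroup.index_dvd_of_le inf_le_left

theorem conj_pow_eq {b g : G} (hz : b⁻¹ * (g * b * g⁻¹) ∈ center G) (j : ℕ) :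
    g ^ j * b * (g ^ j)⁻¹ = b * (b⁻¹ * (g * b * g⁻¹)) ^ j := by
  set ζ := b⁻¹ * (g * b * g⁻¹) with hζ
  have e : g * b * g⁻¹ = b * ζ := by rw [hζ, mul_inv_cancel_left]
  induction j with
  | zero => simp
  | succ j ih =>
    have hc := Subgroup.mem_center_iff.1 (pow_mem hz j) g
    rw [pow_succ' g, pow_succ' ζ, mul_inv_rev,
      show g * g ^ j * b * ((g ^ j)⁻¹ * g⁻¹) = g * (g ^ j * b * (g ^ j)⁻¹) * g⁻¹ by group, ih,
      show g * (b * ζ ^ j) * g⁻¹ = g * b * (ζ ^ j * g⁻¹) by group]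
    have hc' : ζ ^ j * g⁻¹ = g⁻¹ * ζ ^ j := (Subgroup.mem_center_iff.1 (pow_mem hz j) g⁻¹).symm
    rw [hc', ← mul_assoc, e, mul_assoc]

theorem zeta_pow {b g : G} (hz : b⁻¹ * (g * b * g⁻¹) ∈ center G) (hb : b ^ s ∈ center G) :
    (b⁻¹ * (g * b * g⁻¹)) ^ s = 1 := by
  set ζ := b⁻¹ * (g * b * g⁻¹) with hζ
  have hc : Commute b ζ := Subgroup.mem_center_iff.1 hz b
  have h1 : (b * ζ) ^ s = b ^ s := by
    rw [hζ, mul_inv_cancel_left, conj_pow, Subgroup.mem_center_iff.1 hb g, mul_inv_cancel_right]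
  rw [hc.mul_pow] at h1
  exact mul_left_cancel (h1.trans (mul_one _).symm)

theorem pow_mem_C {b g : G} (hz : b⁻¹ * (g * b * g⁻¹) ∈ center G) (hb : b ^ s ∈ center G) :
    g ^ s ∈ C b := by
  have h := conj_pow_eq hz s
  rw [zeta_pow hz hb, mul_one] at h
  exact mem_C.2 (mul_inv_eq_iff_eq_mul.1 h).symm

theorem mem_normalizer_C {b g : G} (hz : b⁻¹ * (g * b * g⁻¹) ∈ center G) :
    g ∈ normalizer ((C b : Subgroup G) : Set G) := by
  set ζ := b⁻¹ * (g * b * g⁻¹) with hζ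
  have e : g * b * g⁻¹ = b * ζ := by rw [hζ, mul_inv_cancel_left]
  refine mem_normalizer_iff.2 fun v => ?_
  have h1 : Commute (g * b * g⁻¹) (g * v * g⁻¹) ↔ Commute b v := by
    constructor
    · intro h
      simpa [mul_assoc] using h.map (MulAut.conj g⁻¹).toMonoidHom
    · intro h
      simpa [mul_assoc] using h.map (MulAut.conj g).toMonoidHom
  have hζc : ∀ w, Commute ζ w := fun w => (Subgroup.mem_center_iff.1 hz w).symm
  rw [mem_C, mem_C, ← h1, e]
  constructor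
  · intro h
    have := h.mul_left (hζc (g * v * g⁻¹)).inv_left
    rwa [mul_inv_cancel_right] at this
  · intro h
    exact h.mul_left (hζc _)

/-- An abelian variant of `no_two_generators`. -/
theorem no_two_generators {Γ : Type*} [Group Γ] [Finite Γ] {W : Type*} [CommGroup W] [Finite W]
    {ρ : Γ →* MulAut W} {Z : Subgroup W} (h : SemiregularPair.Semi ρ Z) {s : ℕ} (hs : s.Prime)
    {w : W} (hws : (orderOf w).Coprime s) (hw : w ∉ Z) {c d : Γ} (hcd : Commute c d)
    (hc : c ^ s = 1) (hc1 : c ≠ 1) (hd : d ^ s = 1) (hdc : d ∉ zpowers c) : False := by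
  refine hw ?_
  have hline : ∀ i : ℕ, ∏ j ∈ Finset.range s, ρ ((c ^ i * d) ^ j) w ∈ Z := fun i => by
    refine SemiregularPair.norm_range_mem h (fun e => hdc ?_) ?_ w
    · rw [eq_inv_of_mul_eq_one_right e]
      exact inv_mem (pow_mem (mem_zpowers c) i)
    · rw [(hcd.pow_left i).mul_pow, ← pow_mul, mul_comm i, pow_mul, hc, one_pow, hd, one_mul]
  have htot : ∏ j ∈ Finset.range s, ∏ i ∈ Finset.range s, ρ ((c ^ i * d) ^ j) w ∈ Z := by
    rw [Finset.prod_comm]
    exact prod_mem fun i _ => hline i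
  rw [← Finset.prod_erase_mul _ _ (Finset.mem_range.2 hs.pos)] at htot
  have hother : ∏ j ∈ (Finset.range s).erase 0, ∏ i ∈ Finset.range s, ρ ((c ^ i * d) ^ j) w ∈ Z := by
    refine prod_mem fun j hj => ?_
    obtain ⟨hj0, hj⟩ := Finset.mem_erase.1 hj
    have e : ∀ i : ℕ, ρ ((c ^ i * d) ^ j) w = ρ ((c ^ j) ^ i) (ρ (d ^ j) w) := fun i => by
      rw [(hcd.pow_left i).mul_pow, ← pow_mul, mul_comm i, pow_mul, map_mul, MulAut.mul_apply]
    simp only [e]
    refine SemiregularPair.norm_range_mem h (fun e' => ?_)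
      (by rw [← pow_mul, mul_comm, pow_mul, hc, one_pow]) _
    have h1 : orderOf c = s := by
      haveI := Fact.mk hs
      exact orderOf_eq_prime hc hc1
    have := Nat.le_of_dvd (Nat.pos_of_ne_zero hj0) (h1 ▸ orderOf_dvd_iff_pow_eq_one.2 e')
    exact absurd (Finset.mem_range.1 hj) (not_lt.2 this)
  have h1 : w ^ s ∈ Z := by
    have h2 := (Z.mul_mem_cancel_left hother).1 htot
    simpa using h2
  obtain ⟨j, hj⟩ := exists_pow_eq_self_of_coprime hws.symm
  exact hj ▸ pow_mem h1 j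

/-- An `s`-group acting on an abelian group, semiregularly modulo `B`, has index `s` over `B`
once all its `s`-th powers lie in `B`. -/
theorem relIndex_eq_prime [hs : Fact s.Prime] {S B L : Subgroup G} (hS : IsPGroup s S) (hBS : B ≤ S)
    (hSB : S ≤ normalizer (B : Set G)) (hne : B ≠ S) (hSL : S ≤ normalizer (L : Set G))
    (hLab : ∀ u ∈ L, ∀ v ∈ L, Commute u v) (hB : ∀ t ∈ B, ∀ l ∈ L, Commute t l)
    (hfix : ∀ u ∈ S, u ∉ B → ∀ l ∈ L, Commute u l → l ∈ center G) (hpow : ∀ u ∈ S, u ^ s ∈ B)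
    {l₀ : G} (hl₀ : l₀ ∈ L) (hl₀c : l₀ ∉ center G) (hl₀s : (orderOf l₀).Coprime s) :
    B.relIndex S = s := by
  let cg : CommGroup L := { (inferInstance : Group L) with
    mul_comm := fun a b => Subtype.ext (hLab a a.2 b b.2).eq }
  haveI : (B.subgroupOf S).Normal := Subgroup.normal_subgroupOf_of_le_normalizer hSB
  have hker : B.subgroupOf S ≤ (L.normalizerMonoidHom.comp (Subgroup.inclusion hSL)).ker := by
    intro g hg
    refine MonoidHom.mem_ker.2 (MulEquiv.ext fun l => Subtype.ext ?_)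
    show (g : G) * l * (g : G)⁻¹ = l
    rw [(hB g hg l l.2).eq, mul_inv_cancel_right]
  let ρ : S ⧸ B.subgroupOf S →* MulAut L := QuotientGroup.lift _ _ hker
  have semi : SemiregularPair.Semi ρ ((center G).subgroupOf L) := by
    refine ⟨fun γ l hl => ?_, fun γ hγ l hfx => ?_⟩
    · obtain ⟨g, rfl⟩ := QuotientGroup.mk_surjective γ
      refine Subtype.ext ?_
      show (g : G) * l * (g : G)⁻¹ = l
      rw [show (g : G) * l = l * g from Subgroup.mem_center_iff.1 hl g, mul_inv_cancel_right]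
    · obtain ⟨g, rfl⟩ := QuotientGroup.mk_surjective γ
      have e : (g : G) * l * (g : G)⁻¹ = l := congrArg Subtype.val hfx
      exact hfix g g.2 (fun hg => hγ ((QuotientGroup.eq_one_iff g).2 hg)) l l.2
        (mul_inv_eq_iff_eq_mul.1 e)
  haveI : Nontrivial (S ⧸ B.subgroupOf S) := by
    refine Finite.one_lt_card_iff_nontrivial.1 (lt_of_le_of_ne Nat.card_pos fun e => hne ?_)
    exact le_antisymm hBS (Subgroup.relIndex_eq_one.1 e.symm)
  haveI := (hS.to_quotient (B.subgroupOf S)).center_nontrivial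
  obtain ⟨c, hc⟩ := exists_ne (1 : center (S ⧸ B.subgroupOf S))
  have hpow' : ∀ γ : S ⧸ B.subgroupOf S, γ ^ s = 1 := fun γ => by
    obtain ⟨g, rfl⟩ := QuotientGroup.mk_surjective γ
    rw [← QuotientGroup.mk_pow, QuotientGroup.eq_one_iff]
    exact hpow g g.2
  have hc1 : (c : S ⧸ B.subgroupOf S) ≠ 1 := fun e => hc (Subtype.ext e)
  have hall : zpowers (c : S ⧸ B.subgroupOf S) = ⊤ := eq_top_iff.2 fun d _ => by
    by_contra hd
    exact no_two_generators semi hs.out (w := ⟨l₀, hl₀⟩) (by rwa [Subgroup.orderOf_mk])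
      hl₀c (Subgroup.mem_center_iff.1 c.2 d).symm (hpow' _) hc1 (hpow' d) hd
  show Nat.card (S ⧸ B.subgroupOf S) = s
  rw [← Subgroup.card_top, ← hall, Nat.card_zpowers]
  exact orderOf_eq_prime (hpow' _) hc1

theorem Hyp.exists_conj_mem (h : Hyp G m n) [hs : Fact s.Prime] (hsm : s ∣ m) {v : G}
    (hv : v ∉ center G) {P : Subgroup G} (hP : IsPGroup s P) (hcP : Nat.card P = cS G m s)
    (hPv : P ≤ C v) {a : G} (ha : IsS s a) (hav : a ∈ C v) : ∃ c ∈ C v, c * a * c⁻¹ ∈ P := by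
  obtain ⟨R₁, hR₁⟩ := (hP.comap_subtype (K := C v)).exists_le_sylow
  obtain ⟨e, he⟩ := ha
  obtain ⟨R₂, hR₂⟩ := (IsPGroup.of_card (p := s) (G := zpowers (⟨a, hav⟩ : C v)) (n := e)
    (by rw [Nat.card_zpowers, Subgroup.orderOf_mk, he])).exists_le_sylow
  have hR : ((R₁ : Subgroup (C v)).map (C v).subtype) = P :=
    h.eq_of_card hsm hv (R₁.2.map _) (map_subtype_le _) hcP
      (fun u hu => ⟨⟨u, hPv hu⟩, hR₁ hu, rfl⟩)
  obtain ⟨c, hc⟩ := MulAction.exists_smul_eq (C v) R₂ R₁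
  refine ⟨c, c.2, ?_⟩
  rw [← hR]
  refine ⟨c * ⟨a, hav⟩ * c⁻¹, ?_, rfl⟩
  rw [← hc, Sylow.coe_subgroup_smul]
  exact Subgroup.mem_map_of_mem _ (hR₂ (mem_zpowers _))

end CfsgLib.CoprimeSizes
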